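import Mathlib
import Cfsg.Agent.S0205
import Cfsg.Agent.Lib.Inv73.ZStar
import Cfsg.Agent.Lib.Inv73.Transfer
import Cfsg.Agent.Lib.ZStar.UniqueInvol
import Cfsg.Agent.Lib.Oval.Cen

/-!
Simple groups preserving an oval in a plane of order `3 mod 4`.
-/

set_option autoImplicit false
set_option linter.unusedSectionVars false

noncomputable section

namespace H52.Oval

open Configuration Finset
open scoped Classical

section Grp

variable {G : Type*} [Group G] [Finite G] [IsSimpleGroup G]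

theorem exists_conj_ne (hG : ¬ IsMulCommutative G) (S : Sylow 2 G) {u : G} (hu : u * u = 1)
    (u1 : u ≠ 1) (huS : u ∈ S) : ∃ g : G, g * u * g⁻¹ ∈ S ∧ g * u * g⁻¹ ≠ u := by
  by_contra hc
  push Not at hc
  have := H73.zpowers_eq_top_of_isolated S (H9.orderOf_eq_two_of_mul_self u1 hu) huS hc
  have : IsCyclic G := isCyclic_iff_exists_zpowers_eq_top.2 ⟨u, this⟩
  exact hG inferInstance

theorem exists_central (hG : ¬ IsMulCommutative G) (S : Sylow 2 G) :
    ∃ z ∈ S, z * z = 1 ∧ z ≠ 1 ∧ ∀ s ∈ S, s * z = z * s := by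
  have h1 : (S : Subgroup G) ≠ ⊥ := fun e => by
    have h2 := H73.odd_index_sylow S
    rw [e, Subgroup.index_bot] at h2
    have := Cfsg.Agent.S0205.result h2
    exact hG ⟨⟨IsSimpleGroup.comm_iff_isSolvable.2 this⟩⟩
  have : Nontrivial (S : Subgroup G) := (Subgroup.nontrivial_iff_ne_bot _).2 h1
  have h2 := S.isPGroup'.center_nontrivial
  obtain ⟨t, ht, h3⟩ := H9.exists_involution_of_isPGroup (X := Subgroup.center (S : Subgroup G))
    (S.isPGroup'.to_subgroup _) ((Subgroup.nontrivial_iff_ne_bot _).1 h2)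
  refine ⟨t, t.2, congrArg Subtype.val (H9.mul_self_of_orderOf_two h3),
    fun e => H9.ne_one_of_orderOf_two h3 (Subtype.ext e), fun s hs => ?_⟩
  exact congrArg Subtype.val (Subgroup.mem_center_iff.1 ht ⟨s, hs⟩)

end Grp

variable {P L : Type*} [Membership P L] [Fintype P] [Fintype L] [ProjectivePlane P L]
variable {G : Type*} [Group G] [MulAction G P] [MulAction G L] {O : Finset P}

namespace Ov

variable (h : Ov L G O)
include h

variable [FaithfulSMul G P]

theorem smul_cen {t g : G} {A : P} {l : L} (hh : Hom t A l) (h0 : ∀ X ∈ O, t • X ≠ X)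
    (hc : g * t = t * g) : g • A = A := by
  by_contra hne
  have key : ∀ m : L, g • A ∈ m → t • m = m := fun m hm => by
    have h1 := hh.ln (g⁻¹ • m) (by simpa using h.smul_mem g⁻¹ hm)
    have h2 : g⁻¹ * t = t * g⁻¹ := by
      rw [inv_mul_eq_iff_eq_mul, ← mul_assoc, hc, mul_inv_cancel_right]
    rw [← MulAction.injective g⁻¹ |>.eq_iff, ← mul_smul, h2, mul_smul, h1]
  have h1 : O ⊆ {X ∈ O | X ∈ jn L A (g • A)} := fun X hX => by
    refine mem_filter.2 ⟨hX, ?_⟩
    have e : jn L X A = jn L X (g • A) := by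
      by_contra e
      exact h0 X hX (h.smul_point e (jn_l _ _) (jn_l _ _) (by rw [hh.ln _ (jn_r _ _)]; exact jn_l _ _)
        (by rw [key _ (jn_r _ _)]; exact jn_l _ _))
    exact line_eq (Ne.symm hne) (jn_r X A) (e ▸ jn_r X (g • A)) (jn_l _ _) (jn_r _ _) ▸ jn_l X A
  have h2 := (card_le_card h1).trans (h.card_inter _)
  have := h.three_le
  rw [h.card] at h2
  omega

theorem smul_axis {t g : G} {A : P} {l : L} (hh : Hom t A l) (h0 : ∀ X ∈ O, t • X ≠ X)
    (hc : g * t = t * g) {p : P} (hp : p ∈ l) : g • p ∈ l := by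
  refine ((hh.pt _).1 (by rw [← mul_smul, ← hc, mul_smul, (hh.pt p).2 (Or.inr hp)])).resolve_left
    fun e => hh.notMem ?_
  rwa [← MulAction.injective g (e.trans (h.smul_cen hh h0 hc).symm)]

theorem cen_mem_axis {a b : G} {A B : P} {l m : L} (ca : Cen L O a A) (ha : Hom a A l)
    (cb : Cen L O b B) (hb : Hom b B m) (h0 : ∀ X ∈ O, a • X ≠ X) (hc : b * a = a * b)
    (hne : a ≠ b) : A ∈ m :=
  ((hb.pt A).1 (h.smul_cen ha h0 hc)).resolve_left fun e => hne (h.cen_inj ca (e ▸ cb))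

theorem no_fix_axis (h4 : ProjectivePlane.order P L % 4 = 3) {x : G} {A : P} {l : L}
    (hh : Hom (x * x) A l) (h0 : ∀ X ∈ O, (x * x) • X ≠ X) (h1 : x * x * (x * x) = 1) {B : P}
    (hB : B ∈ l) : x • B ≠ B := fun e => by
  have hA : x • A = A := h.smul_cen hh h0 (mul_assoc _ _ _).symm
  have hAB : A ≠ B := fun e' => hh.notMem (e' ▸ hB)
  have hl : x • jn L A B = jn L A B :=
    h.smul_line hAB (jn_l _ _) (jn_r _ _) (by rw [hA]; exact jn_l _ _) (by rw [e]; exact jn_r _ _)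
  have := pow_dvd_card (T := (({p : P | p ∈ jn L A B} : Finset P).erase A).erase B) (g := x) (i := 1)
    (fun p hp => by
      simp only [mem_erase, mem_filter, mem_univ, true_and] at hp ⊢
      exact ⟨fun e' => hp.1 (MulAction.injective x (e'.trans e.symm)),
        fun e' => hp.2.1 (MulAction.injective x (e'.trans hA.symm)), hl ▸ h.smul_mem x hp.2.2⟩)
    (fun p _ => by rw [show x ^ 2 ^ (1 + 1) = x * x * (x * x) by norm_num [pow_succ, mul_assoc], h1,
      one_smul])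
    (fun p hp e' => by
      simp only [mem_erase, mem_filter, mem_univ, true_and] at hp
      rw [pow_one, pow_two] at e'
      rcases (hh.pt p).1 e' with e2 | e2
      · exact hp.2.1 e2
      · exact hp.1 (point_eq (fun e3 : l = jn L A B => hh.notMem (e3 ▸ jn_l A B)) e2 hB hp.2.2
          (jn_r _ _)))
  rw [card_erase_of_mem (by simpa using ⟨hAB.symm, jn_r _ _⟩),
    card_erase_of_mem (by simpa using jn_l _ _), card_pts] at this
  omega

theorem card_fix_axis {a z : G} {A B : P} {l m : L} (ca : Cen L O a A) (ha : Hom a A l)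
    (cz : Cen L O z B) (hz : Hom z B m) (h0 : ∀ X ∈ O, a • X ≠ X) (hc : z * a = a * z)
    (hne : a ≠ z) : #{p ∈ ({p : P | p ∈ m} : Finset P) | a • p = p} = 2 := by
  have hA := h.cen_mem_axis ca ha cz hz h0 hc hne
  have hlm : l ≠ m := fun e => ha.notMem (e ▸ hA)
  refine card_eq_two.2 ⟨A, mt P l m, fun e => ha.notMem (e ▸ mt_l l m), ?_⟩
  ext p
  simp only [mem_filter, mem_univ, true_and, mem_insert, mem_singleton, ha.pt]
  constructor
  · rintro ⟨h1, h2 | h2⟩
    · exact Or.inl h2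
    · exact Or.inr (point_eq hlm h2 (mt_l _ _) h1 (mt_r _ _))
  · rintro (rfl | rfl)
    · exact ⟨hA, Or.inl rfl⟩
    · exact ⟨mt_r _ _, Or.inr (mt_l _ _)⟩

variable [Finite G] [IsSimpleGroup G]

theorem fo_mod (hG : ¬ IsMulCommutative G) {t : G} (ht : t * t = 1) :
    fo O ({t} : Set G) % 4 = (ProjectivePlane.order P L + 1) % 4 := by
  rw [fo_single, fixed_modEq_four hG h.inv ht, h.card]

theorem fix_none (hG : ¬ IsMulCommutative G) (h4 : ProjectivePlane.order P L % 4 = 3) {t : G}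
    (ht : t * t = 1) (t1 : t ≠ 1) : ∀ X ∈ O, t • X ≠ X := fun X hX e => by
  have h1 := h.fo_mod hG ht
  have h2 : 0 < fo O ({t} : Set G) := card_pos.2 ⟨X, mem_filter.2 ⟨hX, fx_single.2 e⟩⟩
  have h3 := h.baer ht t1 (by omega)
  obtain ⟨k, hk⟩ : ∃ k, fo O ({t} : Set G) - 1 = 2 * k + 1 := ⟨fo O ({t} : Set G) / 2 - 1, by omega⟩
  rw [hk, show (2 * k + 1) ^ 2 = 4 * (k * k + k) + 1 by ring] at h3
  omega

theorem dihedral_three (hG : ¬ IsMulCommutative G) (h4 : ProjectivePlane.order P L % 4 = 3)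
    (S : Sylow 2 G) : ∃ m, 2 ≤ m ∧ Nonempty ((S : Subgroup G) ≃* DihedralGroup m) := by
  obtain ⟨z, zS, zz, z1, zc⟩ := exists_central hG S
  obtain ⟨g, aS, az⟩ := exists_conj_ne hG S zz z1 zS
  set a := g * z * g⁻¹
  have aa : a * a = 1 := by
    calc a * a = g * (z * z) * g⁻¹ := by simp only [a]; group
      _ = 1 := by rw [zz]; group
  have a1 : a ≠ 1 := fun e => z1 (by simpa [a] using e)
  have z0 := h.fix_none hG h4 zz z1
  obtain ⟨A, l, cz, hz⟩ := h.exists_hom h4 zz z0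
  have hSt : (S : Subgroup G) ≤ St G ({p : P | p ∈ l} : Finset P) := fun s hs => mem_St fun p hp => by
    simp only [mem_filter, mem_univ, true_and] at hp ⊢
    exact h.smul_axis hz z0 (zc s hs) hp
  let ε : (S : Subgroup G) →* ℤˣ := Equiv.Perm.sign.comp ((ph _).comp (Subgroup.inclusion hSt))
  have e1 : ∀ s : (S : Subgroup G), s.1 * s.1 = 1 → s.1 ≠ 1 → s.1 ≠ z → ε s = -1 := fun s a b c => by
    have s0 := h.fix_none hG h4 a b
    obtain ⟨B, m, cs, hs⟩ := h.exists_hom h4 a s0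
    refine (sign_two (Subgroup.inclusion hSt s) fun p _ => by
      rw [pow_two, Subgroup.coe_inclusion, a, one_smul]).trans ?_
    rw [Subgroup.coe_inclusion, h.card_fix_axis cs hs cz hz s0 (zc _ s.2).symm c, card_pts]
    exact Odd.neg_one_pow (Nat.odd_iff.2 (by omega))
  have ez : ε ⟨z, zS⟩ = 1 := by
    have : ph _ (Subgroup.inclusion hSt ⟨z, zS⟩) = 1 := by
      ext x
      exact (hz.pt _).2 (Or.inr (mem_filter.1 x.2).2)
    exact (congrArg Equiv.Perm.sign this).trans (map_one _)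
  have e2 : ∀ s : (S : Subgroup G), s.1 * s.1 ≠ 1 → ε s = 1 := fun s hs => by
    obtain ⟨k, hk⟩ := (IsPGroup.iff_orderOf.1 S.isPGroup') s
    rw [← Subgroup.orderOf_coe] at hk
    obtain ⟨i, rfl⟩ : ∃ i, k = i + 2 := ⟨k - 2, by
      by_contra hc
      refine hs (by
        rw [← pow_two]
        refine orderOf_dvd_iff_pow_eq_one.1 (hk ▸ ?_)
        exact (Nat.pow_dvd_pow 2 (by omega : k ≤ 1)).trans (by norm_num))⟩
    obtain ⟨u1, u2⟩ := H41.half_pow_mul_self (m := i + 1) hk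
    have e : s.1 ^ 2 ^ i * s.1 ^ 2 ^ i = s.1 ^ 2 ^ (i + 1) := by rw [← pow_add, ← two_mul, ← pow_succ']
    have u0 := h.fix_none hG h4 u1 u2
    have uz : s.1 ^ 2 ^ (i + 1) = z := by
      by_contra hne
      obtain ⟨B, m, cu, hu⟩ := h.exists_hom h4 u1 u0
      exact h.no_fix_axis h4 (e ▸ hu) (e ▸ u0) (e ▸ u1)
        (h.cen_mem_axis cz hz cu hu z0 (zc _ (pow_mem s.2 _)) (Ne.symm hne))
        (h.smul_cen hz z0 (zc _ (pow_mem s.2 _)))
    obtain ⟨c, c1, c2⟩ := semi (Subgroup.inclusion hSt s) (i := i) (fun p hp => by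
      rw [Subgroup.coe_inclusion, uz]
      exact (hz.pt _).2 (Or.inr (by simpa using hp))) fun p hp => by
        rw [Subgroup.coe_inclusion]
        exact h.no_fix_axis h4 (by rwa [e, uz]) (by rwa [e, uz]) (by rwa [e, uz]) (by simpa using hp)
    have c3 := pow_dvd_card (h.inv s.1) (i := i + 1)
      (fun p _ => by rw [← hk, pow_orderOf_eq_one, one_smul]) u0
    rw [h.card, ← card_pts l, c1, pow_succ] at c3
    exact c2.trans (Even.neg_one_pow (even_iff_two_dvd.2
      (Nat.dvd_of_mul_dvd_mul_left (by positivity) c3)))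
  have ea := e1 ⟨a, aS⟩ aa a1 az
  have e3 : ∀ s : (S : Subgroup G), ε s = 1 → a * s * a⁻¹ = s.1⁻¹ := fun s hs => by
    have : a * s * (a * s) = 1 := by
      by_contra hc
      have := e2 (⟨a, aS⟩ * s) hc
      rw [map_mul, ea, hs] at this
      exact absurd this (by decide)
    rw [inv_eq_of_mul_eq_one_right aa, eq_inv_iff_mul_eq_one, ← this, mul_assoc, mul_assoc]
  have hu : H41.UniqInv ε.ker := fun u v a b c d => by
    have key : ∀ u : ε.ker, u * u = 1 → u ≠ 1 → u.1.1 = z := fun u a c => by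
      by_contra hne
      have := e1 u.1 (congrArg (fun x : ε.ker => x.1.1) a) (fun e => c (Subtype.ext (Subtype.ext e))) hne
      exact absurd (this.symm.trans u.2) (by decide)
    exact Subtype.ext (Subtype.ext ((key u a c).trans (key v b d).symm))
  have hcyc : IsCyclic ε.ker := by
    rcases hu.cyclic_or_quaternion (S.isPGroup'.to_subgroup _) with hc | ⟨n, ⟨f⟩⟩
    · exact hc
    exfalso
    have comm : ∀ u v : ε.ker, u * v = v * u := fun u v => by
      have k1 := e3 (u.1 * v.1) (mul_mem u.2 v.2)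
      refine Subtype.ext (Subtype.ext (inv_injective ?_))
      calc (u.1.1 * v.1.1)⁻¹ = a * u.1.1 * a⁻¹ * (a * v.1.1 * a⁻¹) := by
            rw [← Subgroup.coe_mul, ← k1, Subgroup.coe_mul]; group
        _ = (v.1.1 * u.1.1)⁻¹ := by rw [e3 _ u.2, e3 _ v.2, mul_inv_rev]
    have k2 := comm (f.symm (.a 1)) (f.symm (.xa 0))
    rw [← map_mul, ← map_mul, f.symm.injective.eq_iff, QuaternionGroup.a_mul_xa,
      QuaternionGroup.xa_mul_a, QuaternionGroup.xa.injEq] at k2
    have k3 : ((2 : ℕ) : ZMod (2 * 2 ^ (n + 1))) = 0 := by push_cast; linear_combination -k2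
    have k4 := Nat.le_of_dvd two_pos ((ZMod.natCast_eq_zero_iff _ _).1 k3)
    have : 0 < 2 ^ n := by positivity
    rw [pow_succ] at k4
    omega
  obtain ⟨⟨⟨y, yS⟩, hy⟩, hyg⟩ := hcyc.exists_generator
  have hmem : ∀ s : (S : Subgroup G), ε s = 1 → ∃ i : ℤ, s.1 = y ^ i := fun s hs => by
    obtain ⟨i, hi⟩ := hyg ⟨s, hs⟩
    exact ⟨i, (congrArg (fun x : ε.ker => x.1.1) hi).symm⟩
  refine ⟨orderOf y, ?_, H41.nonempty_mulEquiv_dihedral (orderOf_pos y).ne' rfl aa
    (e3 ⟨y, yS⟩ hy) ?_ fun s => ⟨fun hs => ?_, ?_⟩⟩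
  · obtain ⟨i, hi⟩ := hmem _ ez
    by_contra hc
    have : orderOf y = 1 := by have := orderOf_pos y; omega
    rw [orderOf_eq_one_iff.1 this, one_zpow] at hi
    exact z1 hi
  · rintro ⟨i, hi⟩
    have : (⟨a, aS⟩ : (S : Subgroup G)) = ⟨y, yS⟩ ^ i := Subtype.ext hi.symm
    rw [this, map_zpow, MonoidHom.mem_ker.1 hy, one_zpow] at ea
    exact absurd ea (by decide)
  · rcases Int.units_eq_one_or (ε ⟨s, hs⟩) with e | e
    · obtain ⟨i, hi⟩ := hmem _ e
      exact ⟨i, Or.inl hi⟩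
    · obtain ⟨i, hi⟩ := hmem (⟨s, hs⟩ * ⟨a, aS⟩) (by rw [map_mul, e, ea]; decide)
      exact ⟨i, Or.inr (by rw [← hi, Subgroup.coe_mul, mul_assoc, aa, mul_one])⟩
  · rintro ⟨i, rfl | rfl⟩
    · exact zpow_mem yS i
    · exact mul_mem (zpow_mem yS i) aS

/-- The configuration of `A₇` does not occur. -/
theorem not_cfg_three (hG : ¬ IsMulCommutative G) (h4 : ProjectivePlane.order P L % 4 = 3)
    {d a y z : G} (d3 : d ^ 3 = 1) (d1 : d ≠ 1) (aa : a * a = 1) (ad : a * d * (a * d) = 1)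
    (zz : z * z = 1) (z1 : z ≠ 1) (yy : y * y = 1) (y1 : y ≠ 1) (yz : y ≠ z) (cyz : y * z = z * y)
    (dz : d * z = z * d) (dy : d * y = y * d) (az : a * z = z * a) : False := by
  have hom : ∀ t : G, t * t = 1 → t ≠ 1 → ∃ (A : P) (l : L), Cen L O t A ∧ Hom t A l ∧
      ∀ X ∈ O, t • X ≠ X := fun t a b => by
    obtain ⟨A, l, c, d⟩ := h.exists_hom h4 a (h.fix_none hG h4 a b)
    exact ⟨A, l, c, d, h.fix_none hG h4 a b⟩
  have dd : ∀ t : G, d * t = t * d → t * t = 1 → t * d * (t * d) ≠ 1 := fun t a b c => d1 (by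
    have : d * d = 1 := by
      rw [← c, mul_assoc, ← mul_assoc d, a, ← mul_assoc, ← mul_assoc, b, one_mul]
    rwa [pow_succ, pow_two, this, one_mul] at d3)
  have a1 : a ≠ 1 := fun e => dd 1 (by simp) (by simp) (e ▸ ad)
  have b1 : a * d ≠ 1 := fun e => dd a (by
    rw [eq_inv_of_mul_eq_one_left e]; simp) aa ad
  have az' : a ≠ z := fun e => dd z dz zz (e ▸ ad)
  have bz : a * d * z = z * (a * d) := by rw [mul_assoc, dz, ← mul_assoc, az, mul_assoc]
  have bz' : a * d ≠ z := fun e => dd a (by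
    have : a = z * d⁻¹ := by rw [← e]; group
    rw [this, ← mul_assoc, dz]; group) aa ad
  have ab : a ≠ a * d := fun e => d1 (by simpa using e)
  have w1 : y * z ≠ 1 := fun e => yz (by rw [eq_inv_of_mul_eq_one_left e, inv_eq_of_mul_eq_one_left zz])
  have ww : y * z * (y * z) = 1 := by rw [mul_assoc, ← mul_assoc z, ← cyz, mul_assoc, zz, mul_one, yy]
  have wz : y * z ≠ z := fun e => y1 (by simpa using e)
  have wy : y * z ≠ y := fun e => z1 (by simpa using e)
  have dw : d * (y * z) = y * z * d := by rw [← mul_assoc, dy, mul_assoc, dz, mul_assoc]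
  obtain ⟨A1, l1, c1, h1, o1⟩ := hom z zz z1
  obtain ⟨A2, l2, c2, h2, o2⟩ := hom y yy y1
  obtain ⟨A3, l3, c3, h3, o3⟩ := hom _ ww w1
  obtain ⟨A, l, ca, ha, oa⟩ := hom a aa a1
  obtain ⟨B, m, cb, hb, ob⟩ := hom _ ad b1
  have ed : a * (a * d) = d := by rw [← mul_assoc, aa, one_mul]
  have f0 : ∀ X ∈ O, d • X ≠ X := fun X hX e => by
    have k := h.fo_mul_le ca cb aa ab
    rw [ed] at k
    refine absurd (two_lt_card.2 ⟨X, mem_filter.2 ⟨hX, fx_single.2 e⟩, z • X,
      mem_filter.2 ⟨h.inv _ _ hX, fx_single.2 (by rw [← mul_smul, dz, mul_smul, e])⟩, y • X,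
      mem_filter.2 ⟨h.inv _ _ hX, fx_single.2 (by rw [← mul_smul, dy, mul_smul, e])⟩,
      (o1 X hX).symm, (o2 X hX).symm, fun e' => o3 X hX ?_⟩) (not_lt.2 k)
    rw [mul_smul, e', ← mul_smul, yy, one_smul]
  have k1 := card_modEq (h.inv d) Nat.prime_three fun p _ => by rw [d3, one_smul]
  rw [filter_false_of_mem f0, h.card, card_empty] at k1
  have k2 := card_modEq (T := {p : P | p ∈ l2}) (g := d) (fun p hp => by
    simp only [mem_filter, mem_univ, true_and] at hp ⊢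
    exact h.smul_axis h2 o2 dy hp) Nat.prime_three fun p _ => by rw [d3, one_smul]
  rw [card_pts] at k2
  have m12 : A1 ∈ l2 := h.cen_mem_axis c1 h1 c2 h2 o1 cyz yz.symm
  have m32 : A3 ∈ l2 := h.cen_mem_axis c3 h3 c2 h2 o3 (by rw [← mul_assoc, mul_assoc y z, ← cyz,
    mul_assoc]) wy
  have m31 : A3 ∈ l1 := h.cen_mem_axis c3 h3 c1 h1 o3 (by rw [← mul_assoc, cyz, mul_assoc, cyz]) wz
  have n13 : A1 ≠ A3 := fun e => h1.notMem (e ▸ m31)
  obtain ⟨C, hC, hC1, hC3⟩ : ∃ C ∈ ({p ∈ ({p : P | p ∈ l2} : Finset P) | d • p = p} : Finset P),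
      C ≠ A1 ∧ C ≠ A3 := by
    by_contra hc
    push Not at hc
    have : ({p ∈ ({p : P | p ∈ l2} : Finset P) | d • p = p} : Finset P) = {A1, A3} := by
      ext p
      refine ⟨fun hp => ?_, fun hp => ?_⟩
      · by_cases e : p = A1
        · simp [e]
        · simp [hc p hp e]
      · rcases mem_insert.1 hp with rfl | hp
        · simpa using ⟨m12, h.smul_cen h1 o1 dz⟩
        · rw [mem_singleton.1 hp]
          simpa using ⟨m32, h.smul_cen h3 o3 dw⟩
    rw [this, card_pair n13] at k2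
    exact absurd (k1.symm.trans k2) (by decide)
  simp only [mem_filter, mem_univ, true_and] at hC
  have mA : A ∈ l1 := h.cen_mem_axis ca ha c1 h1 oa az.symm az'
  have mB : B ∈ l1 := h.cen_mem_axis cb hb c1 h1 ob bz.symm bz'
  have nAB : A ≠ B := fun e => ab (h.cen_inj ca (e ▸ cb))
  have key : ∀ p : P, d • p = p → p ∉ l1 → p ∈ l ∧ p ∈ m := fun p hp hn => by
    have e : (a * d) • p = a • p := by rw [mul_smul, hp]
    have pa : a • p = p := by
      by_contra hne
      have g1 : a • p ∈ jn L p A := ha.ln _ (jn_r p A) ▸ h.smul_mem a (jn_l _ _)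
      have g2 : a • p ∈ jn L p B := e ▸ hb.ln _ (jn_r p B) ▸ h.smul_mem _ (jn_l _ _)
      have g3 := line_eq hne g1 (jn_l _ _) g2 (jn_l _ _)
      exact hn (line_eq nAB (jn_r p A) (g3 ▸ jn_r p B) mA mB ▸ jn_l p A)
    exact ⟨((ha.pt p).1 pa).resolve_left fun e' => hn (e' ▸ mA),
      ((hb.pt p).1 (e.trans pa)).resolve_left fun e' => hn (e' ▸ mB)⟩
  have l12 : l1 ≠ l2 := fun e => h1.notMem (e ▸ m12)
  have q1 := key A1 (h.smul_cen h1 o1 dz) h1.notMem
  have q2 := key C hC.2 fun hm => hC3 (point_eq l12 hm m31 hC.1 m32)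
  have lm : l = m := line_eq hC1 q2.1 q1.1 q2.2 q1.2
  have u : ∀ t : G, t * t = 1 → t ≠ z → t * z = z * t → t * z * (t * z) = 1 ∧ t * z ≠ 1 :=
    fun t a b c => ⟨by rw [mul_assoc, ← mul_assoc z, ← c, mul_assoc, zz, mul_one, a],
      fun e => b (by rw [eq_inv_of_mul_eq_one_left e, inv_eq_of_mul_eq_one_left zz])⟩
  obtain ⟨D, n1, cd, hd, od⟩ := hom _ (u a aa az' az).1 (u a aa az' az).2
  obtain ⟨E, n2, ce, he, oe⟩ := hom _ (u _ ad bz' bz).1 (u _ ad bz' bz).2
  have ll : l ≠ l1 := fun e => ha.notMem (e ▸ mA)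
  have DE : D = E := point_eq ll
    (h.cen_mem_axis cd hd ca ha od (by rw [mul_assoc, ← az]) (by simpa using z1))
    (lm ▸ h.cen_mem_axis ce he cb hb oe (by rw [mul_assoc (a * d) z, ← bz]) (by simpa using z1))
    (h.cen_mem_axis cd hd c1 h1 od (by rw [← mul_assoc, ← az]) (by simpa using a1))
    (h.cen_mem_axis ce he c1 h1 oe (by rw [← mul_assoc, ← bz]) fun e => b1 (by simpa using e))
  exact ab (mul_right_cancel (h.cen_inj cd (DE ▸ ce)))

end Ov

end H52.Oval
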