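import Mathlib
import Cfsg.Agent.S1241
import Cfsg.Agent.Lib.Oval.Three

/-!
Simple groups preserving an oval in a plane of order `1 mod 4`: homologies in a Sylow `2`-subgroup.
-/

set_option autoImplicit false
set_option linter.unusedSectionVars false

noncomputable section

namespace H52.Oval

open Configuration Finset
open scoped Classical

section Grp

variable {G : Type*} [Group G]

theorem exists_q8 {n : ℕ} (f : G ≃* QuaternionGroup (2 ^ (n + 1))) :
    ∃ i j z : G, z * z = 1 ∧ z ≠ 1 ∧ i * i = z ∧ j * j = z ∧ j * i = z * (i * j) := by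
  have h : orderOf (f.symm (.a (2 ^ (n + 1) : ℕ))) = 2 := by
    rw [f.symm.orderOf_eq, ← QuaternionGroup.a_one_pow, orderOf_pow,
      QuaternionGroup.orderOf_a_one, Nat.gcd_eq_right (Dvd.intro_left _ rfl),
      Nat.mul_div_cancel _ (by positivity)]
  refine ⟨f.symm (.a (2 ^ n : ℕ)), f.symm (.xa 0), _, H9.mul_self_of_orderOf_two h,
    H9.ne_one_of_orderOf_two h, ?_, ?_, ?_⟩
  · rw [← map_mul, QuaternionGroup.a_mul_a]
    congr 2
    push_cast; ring
  · rw [← map_mul, QuaternionGroup.xa_mul_xa, add_zero, sub_zero]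
  · simp only [← map_mul, QuaternionGroup.a_mul_xa, QuaternionGroup.xa_mul_a]
    congr 2
    have := ZMod.natCast_self (2 * 2 ^ (n + 1))
    push_cast at this ⊢
    linear_combination this

theorem exists_half {S : Subgroup G} (hS : IsPGroup 2 S) {y : G} (hy : y ∈ S) (y1 : y ≠ 1) :
    ∃ k : ℕ, y ^ 2 ^ k * y ^ 2 ^ k = 1 ∧ y ^ 2 ^ k ≠ 1 := by
  obtain ⟨k, hk⟩ := IsPGroup.iff_orderOf.1 hS ⟨y, hy⟩
  rw [← Subgroup.orderOf_coe] at hk
  obtain _ | k := k
  · exact absurd (orderOf_eq_one_iff.1 hk) y1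
  · exact ⟨k, H41.half_pow_mul_self hk⟩

theorem conj_refl {a y : G} (aa : a * a = 1) (ay : a * y * (a * y) = 1) (i : ℤ) :
    y ^ i * a = a * y ^ (-i) := by
  have h1 : a * y * a⁻¹ = y⁻¹ := by
    rw [inv_eq_of_mul_eq_one_right aa, eq_inv_iff_mul_eq_one, ← ay, mul_assoc, mul_assoc]
  have h2 : a * y ^ (-i) * a⁻¹ = y ^ i := by rw [← conj_zpow, h1]; group
  rw [← h2]; group

theorem refl_mul_refl {a y : G} (aa : a * a = 1) (ay : a * y * (a * y) = 1) (i j : ℤ) :
    a * y ^ i * (a * y ^ j) = y ^ (j - i) := by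
  rw [mul_assoc, ← mul_assoc (y ^ i), conj_refl aa ay, ← mul_assoc, ← mul_assoc, aa]; group

/-- A transfer lemma. -/
theorem kill [Finite G] [IsSimpleGroup G] (hG : ¬ IsMulCommutative G) (S : Sylow 2 G)
    {W : Subgroup G} (hW : W ≤ S) (hab : ∀ x ∈ S, ∀ y ∈ S, x * y * x⁻¹ * y⁻¹ ∈ W) {β δ : G}
    (βS : β ∈ S) (δS : δ ∈ S) (ββ : β * β = 1) (δδ : δ * δ ∈ W) (h1 : β ∉ W) (h2 : β * δ ∉ W)
    (hc : ∀ g : G, g * β * g⁻¹ ∈ S → g * β * g⁻¹ * β ∈ W ∨ g * β * g⁻¹ * β * δ ∈ W) : False := by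
  have hn : ∀ x ∈ S, ∀ w ∈ W, x * w * x⁻¹ ∈ W := fun x hx w hw => by
    simpa using mul_mem (hab x hx w (hW hw)) hw
  let K : Subgroup G :=
    { carrier := {s | s ∈ S ∧ (s ∈ W ∨ s * δ ∈ W)}
      one_mem' := ⟨one_mem _, Or.inl (one_mem _)⟩
      mul_mem' := by
        rintro s t ⟨hs, a | a⟩ ⟨ht, b | b⟩ <;> refine ⟨mul_mem hs ht, ?_⟩
        · exact Or.inl (mul_mem a b)
        · exact Or.inr (by simpa [mul_assoc] using mul_mem a b)
        · exact Or.inr (by simpa [mul_assoc] using mul_mem a (hn _ (inv_mem δS) _ b))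
        · exact Or.inl (by
            simpa [mul_assoc] using mul_mem (mul_mem a (hn _ (inv_mem δS) _ b)) (inv_mem δδ))
      inv_mem' := by
        rintro s ⟨hs, a | a⟩ <;> refine ⟨inv_mem hs, ?_⟩
        · exact Or.inl (inv_mem a)
        · exact Or.inr (by simpa [mul_assoc] using mul_mem (hn _ δS _ (inv_mem a)) δδ) }
  have k1 : ∀ x ∈ (S : Subgroup G), ∀ y ∈ (S : Subgroup G), x * y * x⁻¹ * y⁻¹ ∈ K :=
    fun x hx y hy => ⟨hW (hab x hx y hy), Or.inl (hab x hx y hy)⟩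
  have β1 : β ≠ 1 := fun e => h1 (e ▸ one_mem _)
  have βi : β⁻¹ = β := inv_eq_of_mul_eq_one_right ββ
  have := Cfsg.Agent.S1241.result (p := 2) (S : Subgroup G) K (fun s hs => hs.1)
    ⟨fun s hs g => by
      have := mul_mem (k1 _ g.2 _ s.2) (Subgroup.mem_subgroupOf.1 hs)
      rw [inv_mul_cancel_right] at this
      exact this⟩ k1
    (Nat.coprime_two_left.2 (H73.odd_index_sylow S)) β βS (fun a => a.2.elim h1 h2)
    ⟨1, H9.orderOf_eq_two_of_mul_self β1 ββ⟩ fun m g hg => by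
      have e : ∀ k : ℤ, β ^ (2 * k) = 1 := fun k => by rw [zpow_mul, zpow_two, ββ, one_zpow]
      rcases Int.even_or_odd' m with ⟨k, rfl | rfl⟩
      · simp [e]
      · rw [zpow_add, e, one_mul, zpow_one] at hg ⊢
        rw [βi]
        exact ⟨mul_mem hg βS, hc g hg⟩
  refine this ?_
  rcases (inferInstance : (commutator G).Normal).eq_bot_or_eq_top with e | e
  · exact absurd ⟨⟨fun a b => commutatorElement_eq_one_iff_mul_comm.1 (Subgroup.mem_bot.1
      (e ▸ Subgroup.commutator_mem_commutator (Subgroup.mem_top a) (Subgroup.mem_top b)))⟩⟩ hG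
  · exact e ▸ Subgroup.mem_top β

/-- Fusion of central elements of a Sylow subgroup. -/
theorem burn [Finite G] (S : Sylow 2 G) {x z : G} (hx : ∀ s ∈ S, s * x = x * s)
    (hz : ∀ s ∈ S, s * z = z * s) (zz : z * z = 1) (hc : IsConj x (x * z))
    (hn : ∀ n ∈ Subgroup.normalizer ((S : Subgroup G) : Set G), n⁻¹ * z * n = z) : z = 1 := by
  obtain ⟨g, hg⟩ := isConj_iff.1 hc
  obtain ⟨n, h1, h2⟩ := S.conj_eq_normalizer_conj_of_mem_centralizer x g⁻¹ hx (fun s hs => by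
    rw [inv_inv, hg, ← mul_assoc, hx s hs, mul_assoc, hz s hs, mul_assoc])
  rw [inv_inv, hg] at h2
  have h3 : Commute (n ^ 2) x := by
    have : n⁻¹ * (n⁻¹ * x * n) * n = x := by
      calc n⁻¹ * (n⁻¹ * x * n) * n = n⁻¹ * (x * z) * n := by rw [← h2]
        _ = n⁻¹ * x * n * (n⁻¹ * z * n) := by group
        _ = x := by rw [← h2, hn n h1, mul_assoc, zz, mul_one]
    calc n ^ 2 * x = n * n * (n⁻¹ * (n⁻¹ * x * n) * n) := by rw [this, pow_two]
      _ = x * n ^ 2 := by rw [pow_two]; group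
  obtain ⟨k, hk⟩ := (H73.odd_index_sylow S).of_dvd_nat
    (Subgroup.relIndex_dvd_index_of_le (Subgroup.le_normalizer (H := (S : Subgroup G))))
  have h4 := Subgroup.pow_index_mem ((S : Subgroup G).subgroupOf
    (Subgroup.normalizer ((S : Subgroup G) : Set G))) ⟨n, h1⟩
  rw [← Subgroup.relIndex, hk] at h4
  have h5 : Commute (n ^ (2 * k + 1)) x := hx _ h4
  rw [pow_succ, pow_mul] at h5
  have h6 : Commute n x := by simpa using (h3.pow_left k).inv_left.mul_left h5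
  rw [mul_assoc, ← h6.eq, inv_mul_cancel_left] at h2
  simpa using h2

end Grp

variable {P L : Type*} [Membership P L] [Fintype P] [Fintype L] [ProjectivePlane P L]
variable {G : Type*} [Group G] [MulAction G P] [MulAction G L] {O : Finset P}

/-- An involution fixing exactly two points of the oval. -/
def Hm (O : Finset P) (t : G) : Prop := t * t = 1 ∧ fo O ({t} : Set G) = 2

theorem three_le_fo {s : Set G} {X Y Z : P} (hX : X ∈ O) (hY : Y ∈ O) (hZ : Z ∈ O) (h1 : X ≠ Y)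
    (h2 : X ≠ Z) (h3 : Y ≠ Z) (f1 : Fx s X) (f2 : Fx s Y) (f3 : Fx s Z) : 3 ≤ fo O s :=
  two_lt_card.2 ⟨X, mem_filter.2 ⟨hX, f1⟩, Y, mem_filter.2 ⟨hY, f2⟩, Z, mem_filter.2 ⟨hZ, f3⟩,
    h1, h2, h3⟩

theorem Hm.pair {t : G} (ht : Hm O t) : ∃ X ∈ O, ∃ Y ∈ O, X ≠ Y ∧ t • X = X ∧ t • Y = Y ∧
    ∀ Z ∈ O, t • Z = Z → Z = X ∨ Z = Y := by
  obtain ⟨X, Y, hne, e⟩ := card_eq_two.1 ht.2
  have hX : X ∈ ({X ∈ O | Fx ({t} : Set G) X} : Finset P) := by simp [e]
  have hY : Y ∈ ({X ∈ O | Fx ({t} : Set G) X} : Finset P) := by simp [e]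
  rw [mem_filter, fx_single] at hX hY
  refine ⟨X, hX.1, Y, hY.1, hne, hX.2, hY.2, fun Z hZ a => ?_⟩
  have : Z ∈ ({X ∈ O | Fx ({t} : Set G) X} : Finset P) := mem_filter.2 ⟨hZ, fx_single.2 a⟩
  simpa [e] using this

theorem smul_fix {t g : G} (hc : g * t = t * g) {X : P} (h : t • X = X) : t • g • X = g • X := by
  rw [← mul_smul, ← hc, mul_smul, h]

namespace Ov

variable (h : Ov L G O)
include h

theorem hm_ne {t : G} (ht : Hm O t) : t ≠ 1 := fun e => by
  have h1 := ht.2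
  have := h.three_le
  rw [e, fo_single, filter_true_of_mem fun _ _ => one_smul _ _, h.card] at h1
  omega

theorem hm_conj {t : G} (ht : Hm O t) (g : G) : Hm O (g * t * g⁻¹) := by
  refine ⟨by rw [show g * t * g⁻¹ * (g * t * g⁻¹) = g * (t * t) * g⁻¹ by group, ht.1]; group, ?_⟩
  rw [← ht.2, fo_single, fo_single]
  refine (card_bij (fun p _ => g • p) (fun p hp => ?_) (fun _ _ _ _ e => MulAction.injective g e)
    fun p hp => ⟨g⁻¹ • p, ?_, smul_inv_smul g p⟩).symm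
  · rw [mem_filter] at hp ⊢
    exact ⟨h.inv g p hp.1, by rw [← mul_smul, inv_mul_cancel_right, mul_smul, hp.2]⟩
  · rw [mem_filter] at hp ⊢
    exact ⟨h.inv _ p hp.1, by rw [eq_inv_smul_iff, ← mul_smul, ← mul_smul, hp.2]⟩

theorem hm_refl {a y : G} (ha : Hm O a) (hy : Hm O (a * y)) (i : ℤ) : Hm O (a * y ^ i) := by
  have e := conj_refl ha.1 hy.1
  rcases Int.even_or_odd' i with ⟨k, rfl | rfl⟩
  · convert h.hm_conj ha (y ^ (-k)) using 1
    rw [e]; group
  · convert h.hm_conj hy (y ^ (-k)) using 1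
    rw [← mul_assoc, e]; group

variable [FaithfulSMul G P]

theorem hm_le {a b : G} (ha : Hm O a) (hb : Hm O b) (hne : a ≠ b) : fo O ({a * b} : Set G) ≤ 2 := by
  obtain ⟨A, ca⟩ := h.exists_cen ha.1 ha.2
  obtain ⟨B, cb⟩ := h.exists_cen hb.1 hb.2
  exact h.fo_mul_le ca cb ha.1 hne

theorem hm_eq {a b : G} (ha : Hm O a) (hb : Hm O b) (hc : b * a = a * b) {X : P} (hX : X ∈ O)
    (a1 : a • X = X) (b1 : b • X = X) : a = b := by
  obtain ⟨A, ca⟩ := h.exists_cen ha.1 ha.2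
  obtain ⟨B, cb⟩ := h.exists_cen hb.1 hb.2
  obtain ⟨Y, hY, Z, hZ, hne, y1, z1, k⟩ := ha.pair
  have key : ∀ Y ∈ O, ∀ Z ∈ O, Y ≠ Z → a • Y = Y → a • Z = Z → (∀ U ∈ O, a • U = U → U = Y ∨ U = Z) →
      b • Y = Y → a = b := fun Y hY Z hZ hne y1 z1 k y2 =>
    h.cen_eq_of_fix ca cb hY hZ hne y1 z1 y2 ((k _ (h.inv b Z hZ) (smul_fix hc z1)).resolve_left
      fun e => hne (MulAction.injective b (y2.trans e.symm)))
  rcases k X hX a1 with rfl | rfl
  · exact key _ hY _ hZ hne y1 z1 k b1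
  · exact key _ hZ _ hY hne.symm z1 y1 (fun U a b => (k U a b).symm) b1

theorem pow_le {a y : G} (ha : Hm O a) (hy : Hm O (a * y)) {i : ℤ} (h1 : y ^ i ≠ 1) :
    fo O ({y ^ i} : Set G) ≤ 2 := by
  have := h.hm_le ha (h.hm_refl ha hy i) (by simpa using h1)
  rwa [← mul_assoc, ha.1, one_mul] at this

/-- An element of odd order inverted by a homology centralises at most one homology. -/
theorem hm_eq_of_odd {a d y z : G} (ha : Hm O a) (hd : Hm O (a * d)) {k : ℕ} (hk : Odd k)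
    (dk : d ^ k = 1) (d1 : d ≠ 1) (hy : Hm O y) (hz : Hm O z) (dy : d * y = y * d)
    (dz : d * z = z * d) : y = z := by
  have key : ∀ t : G, Hm O t → d * t = t * d → ∀ X ∈ O, t • X = X → d • X = X := fun t ht c X hX e => by
    obtain ⟨Y, hY, Z, hZ, hne, y1, z1, u⟩ := ht.pair
    by_contra hn
    have h2 : d ^ 2 • X = X := by
      have k1 := smul_fix c e
      have k2 := smul_fix c k1
      have k3 : d • d • X ≠ d • X := fun e' => hn (MulAction.injective d e')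
      rw [pow_two, mul_smul]
      rcases u _ hX e with e1 | e1 <;> rcases u _ (h.inv d X hX) k1 with e2 | e2 <;>
        rcases u _ (h.inv d _ (h.inv d X hX)) k2 with e3 | e3 <;>
        first | exact e3.trans e1.symm | exact absurd (e3.trans e2.symm) k3 |
          exact absurd (e2.trans e1.symm) hn
    obtain ⟨m, rfl⟩ := hk
    have h3 : (d ^ 2) ^ m • X = X := (MulAction.stabilizer G X).pow_mem h2 m
    rw [pow_succ', pow_mul] at dk
    exact hn (by rw [← h3, ← mul_smul, dk, one_smul, h3])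
  have h1 := h.pow_le ha hd (i := 1) (by simpa using d1)
  rw [zpow_one] at h1
  obtain ⟨A, cy⟩ := h.exists_cen hy.1 hy.2
  obtain ⟨B, cz⟩ := h.exists_cen hz.1 hz.2
  obtain ⟨X, hX, Y, hY, hne, x1, y1, -⟩ := hy.pair
  obtain ⟨U, hU, V, hV, hne', u1, v1, -⟩ := hz.pair
  have k : ∀ W ∈ O, z • W = W → y • W = W := fun W hW e => by
    by_contra hn
    have := three_le_fo (s := {d}) hX hY hW hne (fun e' => hn (e' ▸ x1)) (fun e' => hn (e' ▸ y1))
      (fx_single.2 (key y hy dy X hX x1)) (fx_single.2 (key y hy dy Y hY y1))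
      (fx_single.2 (key z hz dz W hW e))
    omega
  exact h.cen_eq_of_fix cy cz hU hV hne' (k U hU u1) (k V hV v1) u1 v1

variable [Finite G] [IsSimpleGroup G] (hG : ¬ IsMulCommutative G)
  (h4 : ProjectivePlane.order P L % 4 = 1)
include hG h4

theorem fo_two {t : G} (ht : t * t = 1) : fo O ({t} : Set G) % 4 = 2 := by
  have := h.fo_mod hG ht
  omega

theorem hm_of_le {t : G} (ht : t * t = 1) (h2 : fo O ({t} : Set G) ≤ 2) : Hm O t :=
  ⟨ht, by have := h.fo_two hG h4 ht; omega⟩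

theorem hm_four {x y : G} (hx : x * x = 1) (hy : y * y = 1) (hc : x * y = y * x) (x1 : x ≠ 1)
    (y1 : y ≠ 1) (hne : x ≠ y) : Hm O x ∨ Hm O y ∨ Hm O (x * y) := by
  have hxy : x * y * (x * y) = 1 := by
    rw [mul_assoc, ← mul_assoc y, ← hc, mul_assoc, hy, mul_one, hx]
  by_contra hn
  push Not at hn
  exact h.four_baer hx hy hc x1 y1 (fun e => hne (by
      rw [eq_inv_of_mul_eq_one_left e, inv_eq_of_mul_eq_one_left hy]))
    (not_le.1 fun k => hn.1 (h.hm_of_le hG h4 hx k)) (not_le.1 fun k => hn.2.1 (h.hm_of_le hG h4 hy k))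
    (not_le.1 fun k => hn.2.2 (h.hm_of_le hG h4 hxy k))

theorem hm_mul {a b : G} (ha : Hm O a) (hb : Hm O b) (hc : a * b = b * a) (hne : a ≠ b) :
    Hm O (a * b) :=
  h.hm_of_le hG h4 (by rw [mul_assoc, ← mul_assoc b, ← hc, mul_assoc, hb.1, mul_one, ha.1])
    (h.hm_le ha hb hne)

theorem uniq_of_fix {R : Subgroup G} (hR : IsPGroup 2 R) {X Y Z : P} (hX : X ∈ O) (hY : Y ∈ O)
    (hZ : Z ∈ O) (h1 : X ≠ Y) (h2 : X ≠ Z) (h3 : Y ≠ Z)
    (hf : ∀ r ∈ R, r • X = X ∧ r • Y = Y ∧ r • Z = Z) : ∃ ρ : G, Subgroup.zpowers ρ = R := by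
  have k : ∀ s : Set G, s ⊆ R → 3 ≤ fo O s := fun s hs => three_le_fo hX hY hZ h1 h2 h3
    (fun r hr => (hf r (hs hr)).1) (fun r hr => (hf r (hs hr)).2.1) (fun r hr => (hf r (hs hr)).2.2)
  have k1 : ∀ r ∈ R, ¬ Hm O r := fun r hr e => by
    have := k {r} (by simpa using hr)
    rw [e.2] at this
    omega
  have hu : H41.UniqInv R := by
    by_cases h0 : R = ⊥
    · subst h0
      exact fun u v _ _ _ _ => Subsingleton.elim u v
    have : Nontrivial R := (Subgroup.nontrivial_iff_ne_bot _).2 h0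
    obtain ⟨t, ht, h3⟩ := H9.exists_involution_of_isPGroup (X := Subgroup.center R)
      (hR.to_subgroup _) ((Subgroup.nontrivial_iff_ne_bot _).1 hR.center_nontrivial)
    have key : ∀ u : R, u * u = 1 → u ≠ 1 → u = t := fun u a b => by
      by_contra hne
      rcases h.hm_four hG h4 (x := u.1) (y := t.1) (congrArg Subtype.val a)
        (congrArg Subtype.val (H9.mul_self_of_orderOf_two h3))
        (congrArg Subtype.val (Subgroup.mem_center_iff.1 ht u)) (fun e => b (Subtype.ext e))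
        (fun e => H9.ne_one_of_orderOf_two h3 (Subtype.ext e)) (fun e => hne (Subtype.ext e))
        with e | e | e
      exacts [k1 _ u.2 e, k1 _ t.2 e, k1 _ (mul_mem u.2 t.2) e]
    exact fun u v a b c d => (key u a c).trans (key v b d).symm
  rcases hu.cyclic_or_quaternion hR with hc | ⟨n, ⟨f⟩⟩
  · exact (Subgroup.isCyclic_iff_exists_zpowers_eq_top R).1 hc
  obtain ⟨i, j, z, a, b, c, d, e⟩ := exists_q8 f
  exact (h.no_q8 (i := i.1) (j := j.1) (z := z.1) (congrArg Subtype.val a)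
    (fun e => b (Subtype.ext e)) (congrArg Subtype.val c) (congrArg Subtype.val d)
    (congrArg Subtype.val e) (k _ (by simp [Set.insert_subset_iff]))).elim

theorem exists_hm_central (S : Sylow 2 G) : ∃ z ∈ S, Hm O z ∧ ∀ s ∈ S, s * z = z * s := by
  have : Fact (Nat.Prime 2) := ⟨Nat.prime_two⟩
  have key : ∀ n : ℕ, ∀ a ∈ Subgroup.upperCentralSeries (S : Subgroup G) n, Hm O a.1 →
      ∃ z ∈ S, Hm O z ∧ ∀ s ∈ S, s * z = z * s := by
    intro n
    induction n with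
    | zero => exact fun a ha k => absurd (congrArg Subtype.val (Subgroup.mem_bot.1 ha)) (h.hm_ne k)
    | succ n ih =>
      intro a ha k
      by_cases hc : ∀ s ∈ S, s * a.1 = a.1 * s
      · exact ⟨a, a.2, k, hc⟩
      push Not at hc
      obtain ⟨s, hs, hne⟩ := hc
      have h1 := Subgroup.mem_upperCentralSeries_succ_iff.1 ha ⟨s, hs⟩
      rw [commutatorElement_def] at h1
      set y := a * ⟨s, hs⟩ * a⁻¹ * (⟨s, hs⟩ : (S : Subgroup G))⁻¹
      have ai : a.1⁻¹ = a.1 := inv_eq_of_mul_eq_one_right k.1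
      have e : a.1 * y.1 = s * a.1 * s⁻¹ := by
        change a.1 * (a.1 * s * a.1⁻¹ * s⁻¹) = _
        rw [ai, ← mul_assoc, ← mul_assoc, ← mul_assoc, k.1, one_mul]
      obtain ⟨m, m1, m2⟩ := exists_half S.isPGroup' y.2 fun e' => hne (by
        rw [e', mul_one] at e
        rw [← mul_inv_eq_iff_eq_mul, ← e])
      refine ih (y ^ 2 ^ m) (pow_mem h1 _) (h.hm_of_le hG h4 m1 ?_)
      have := h.pow_le k (e ▸ h.hm_conj k s) (i := (2 ^ m : ℕ)) (by rwa [zpow_natCast])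
      rwa [zpow_natCast] at this
  obtain ⟨n, hn⟩ := S.isPGroup'.isNilpotent.nilpotent
  obtain ⟨z, zS, zz, z1, zc⟩ := exists_central hG S
  obtain ⟨g, aS, az⟩ := exists_conj_ne hG S zz z1 zS
  rcases h.hm_four hG h4 (x := g * z * g⁻¹) (by
    rw [show g * z * g⁻¹ * (g * z * g⁻¹) = g * (z * z) * g⁻¹ by group, zz]; group) zz (zc _ aS)
    (fun e => z1 (by simpa using e)) z1 az with k | k | k
  exacts [key n ⟨_, aS⟩ (hn ▸ Subgroup.mem_top _) k, key n ⟨_, zS⟩ (hn ▸ Subgroup.mem_top _) k,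
    key n ⟨_, mul_mem aS zS⟩ (hn ▸ Subgroup.mem_top _) k]

end Ov

end H52.Oval
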