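import Mathlib
import Cfsg.Agent.Lib.Oval.One

/-!
The structure of a Sylow `2`-subgroup of a simple group preserving an oval, order `1 mod 4`.
-/

set_option autoImplicit false
set_option linter.unusedSectionVars false

noncomputable section

namespace H52.Oval

open Configuration Finset Subgroup
open scoped Classical

variable {P L : Type*} [Membership P L] [Fintype P] [Fintype L] [ProjectivePlane P L]
variable {G : Type*} [Group G] [MulAction G P] [MulAction G L] {O : Finset P}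

/-- Notation for a Sylow `2`-subgroup. -/
structure Su (O : Finset P) (S : Subgroup G) (z a v ρ : G) (p q x : P) : Prop where
  zS : z ∈ S
  aS : a ∈ S
  vS : v ∈ S
  rS : ρ ∈ S
  hz : Hm O z
  ha : Hm O a
  hv : Hm O (a * v)
  zc : ∀ s ∈ S, s * z = z * s
  pO : p ∈ O
  qO : q ∈ O
  xO : x ∈ O
  pq : p ≠ q
  px : p ≠ x
  qx : q ≠ x
  zf : ∀ X ∈ O, z • X = X ↔ X = p ∨ X = q
  ap : a • p = q
  aq : a • q = p
  vp : v • p = p
  rp : ρ • p = p
  rx : ρ • x = x
  ra : ρ * a = a * ρ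
  zv : z ∈ zpowers v
  sp : ∀ s ∈ S, s • p = p ∨ s • p = q
  sq : ∀ s ∈ S, s • p = p → s • q = q
  hs : ∀ b ∈ S, Hm O b → b = z ∨ ∃ i : ℤ, b = a * v ^ i
  hr : ∀ s ∈ S, s • p = p → s * a = a * s → s ∈ zpowers ρ ∨ z * s ∈ zpowers ρ

namespace Ov

variable (h : Ov L G O) [FaithfulSMul G P] [Finite G] [IsSimpleGroup G] (hG : ¬ IsMulCommutative G)
  (h4 : ProjectivePlane.order P L % 4 = 1)
include h hG h4

theorem exists_su (S : Sylow 2 G) : ∃ (z a v ρ : G) (p q x : P), Su O (S : Subgroup G) z a v ρ p q x := by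
  obtain ⟨z, zS, hz, zc⟩ := h.exists_hm_central hG h4 S
  obtain ⟨g, aS, az⟩ := exists_conj_ne hG S hz.1 (h.hm_ne hz) zS
  have ha := h.hm_conj hz g
  generalize g * z * g⁻¹ = a at aS az ha
  obtain ⟨p, pO, q, qO, pq, zp, zq, zf⟩ := hz.pair
  obtain ⟨x, xO, x', xO', xx, ax, ax', af⟩ := ha.pair
  have one : ∀ b ∈ S, Hm O b → ∀ X ∈ O, z • X = X → b • X = X → b = z := fun b hb k X hX e1 e2 =>
    (h.hm_eq hz k (zc b hb) hX e1 e2).symm
  have sp : ∀ s ∈ S, s • p = p ∨ s • p = q := fun s hs => zf _ (h.inv s p pO) (smul_fix (zc s hs) zp)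
  have sq' : ∀ s ∈ S, s • q = p ∨ s • q = q := fun s hs => zf _ (h.inv s q qO) (smul_fix (zc s hs) zq)
  have sq : ∀ s ∈ S, s • p = p → s • q = q := fun s hs e =>
    (sq' s hs).resolve_left fun e' => pq (MulAction.injective s (e.trans e'.symm))
  have ap : a • p = q := (sp a aS).resolve_left fun e => az (one a aS ha p pO zp e)
  have aq : a • q = p := (sq' a aS).resolve_right fun e => az (one a aS ha q qO zq e)
  have px : p ≠ x := fun e => pq (by rw [← ap, e, ax])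
  have qx : q ≠ x := fun e => pq (by rw [← aq, e, ax])
  have zx : z • x = x' := (af _ (h.inv z x xO) (smul_fix (zc a aS).symm ax)).resolve_left fun e =>
    (zf x xO e).elim px.symm qx.symm
  obtain ⟨ρ, hρ⟩ := h.uniq_of_fix hG h4
    (R := S ⊓ centralizer {a} ⊓ MulAction.stabilizer G p ⊓ MulAction.stabilizer G x)
    (S.isPGroup'.to_le (inf_le_left.trans (inf_le_left.trans inf_le_left))) pO qO xO pq px qx
    fun r hr => ⟨hr.1.2, sq r hr.1.1.1 hr.1.2, hr.2⟩
  have hρ' := hρ ▸ mem_zpowers ρ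
  have hr : ∀ s ∈ S, s • p = p → s * a = a * s → s • x = x ∨ (z * s) • x = x := fun s hs e1 e2 =>
    (af _ (h.inv s x xO) (smul_fix e2 ax)).imp id fun e => by
      rw [mul_smul, e, ← zx, ← mul_smul, hz.1, one_smul]
  let Y : G → Prop := fun y => y ∈ S ∧ y • p = p ∧ Hm O (a * y)
  have Y1 : ∀ y, Y y → ∀ i : ℤ, Y (y ^ i) := fun y hy i =>
    ⟨zpow_mem hy.1 i, (MulAction.stabilizer G p).zpow_mem hy.2.1 i, h.hm_refl ha hy.2.2 i⟩
  have Y2 : ∀ b y, Hm O b → Hm O (b * y) → y ∈ S → y • p = p → y * y = 1 → y = 1 ∨ y = z :=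
    fun b y k1 k2 yS yp yy => or_iff_not_imp_left.2 fun y1 => one y yS (h.hm_of_le hG h4 yy (by
      simpa using h.pow_le k1 k2 (i := 1) (by simpa using y1))) p pO zp yp
  have Y3 : ∀ y, Y y → y ≠ 1 → z ∈ zpowers y := fun y hy y1 => by
    obtain ⟨k, k1, k2⟩ := exists_half S.isPGroup' hy.1 y1
    have k3 := Y1 y hy (2 ^ k : ℕ)
    rw [zpow_natCast] at k3
    exact (Y2 a _ ha k3.2.2 k3.1 k3.2.1 k1).resolve_left k2 ▸ pow_mem (mem_zpowers y) _
  have Y4 : ∀ y u, Y y → Y u → y * y = u * u → u ≠ 1 → y ∈ zpowers u := fun y u hy hu e u1 => by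
    have e1 := conj_refl ha.1 hy.2.2.1 1
    have e2 := conj_refl ha.1 hu.2.2.1 1
    have e3 := conj_refl ha.1 hu.2.2.1 (-1)
    simp only [zpow_one, zpow_neg, inv_inv] at e1 e2 e3
    have e4 : a * u * (u⁻¹ * y) = a * y := by group
    have wS : u⁻¹ * y ∈ S := mul_mem (inv_mem hu.1) hy.1
    have wp : (u⁻¹ * y) • p = p := by rw [mul_smul, hy.2.1, inv_smul_eq_iff, hu.2.1]
    have wa : u⁻¹ * y * a = a * (u⁻¹ * y) := by
      rw [mul_assoc, e1, ← mul_assoc, e3, mul_assoc]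
      congr 1
      calc u * y⁻¹ = u⁻¹ * (u * u) * y⁻¹ := by group
        _ = u⁻¹ * y := by rw [← e]; group
    have ww : u⁻¹ * y * (u⁻¹ * y) = 1 := by
      by_contra hne
      have k1 := h.pow_le hu.2.2 (e4 ▸ hy.2.2) (i := 2) (by rwa [zpow_two])
      have k2 : (u⁻¹ * y * (u⁻¹ * y)) • x = x := by
        rcases hr _ wS wp wa with k | k
        · rw [mul_smul, k, k]
        · have : z * (u⁻¹ * y) * (z * (u⁻¹ * y)) = u⁻¹ * y * (u⁻¹ * y) := by
            rw [mul_assoc, ← mul_assoc _ z, zc _ wS, mul_assoc z, ← mul_assoc z, hz.1, one_mul]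
          rw [← this, mul_smul, k, k]
      have k3 : (u⁻¹ * y * (u⁻¹ * y)) • p = p := by rw [mul_smul, wp, wp]
      have := three_le_fo (s := {u⁻¹ * y * (u⁻¹ * y)}) pO qO xO pq px qx (fx_single.2 k3)
        (fx_single.2 (sq _ (mul_mem wS wS) k3)) (fx_single.2 k2)
      rw [zpow_two] at k1
      omega
    rw [show y = u * (u⁻¹ * y) by group]
    rcases Y2 _ _ hu.2.2 (e4 ▸ hy.2.2) wS wp ww with k | k <;> rw [k]
    exacts [mul_mem (mem_zpowers u) (one_mem _), mul_mem (mem_zpowers u) (Y3 u hu u1)]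
  have Y5 : ∀ k : ℕ, ∀ y u, Y y → Y u → y ^ 2 ^ k = 1 → y ∈ zpowers u ∨ u ∈ zpowers y := by
    intro k
    induction k with
    | zero => exact fun y u _ _ e => Or.inl (by rw [show y = 1 by simpa using e]; exact one_mem _)
    | succ k ih =>
      have key : ∀ y u, Y y → Y u → y ^ (2 : ℤ) ∈ zpowers (u ^ (2 : ℤ)) →
          y ∈ zpowers u ∨ u ∈ zpowers y := fun y u hy hu ⟨j, e⟩ => by
        by_cases u1 : u = 1
        · exact Or.inr (u1 ▸ one_mem _)
        by_cases uj : u ^ j = 1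
        · have e' : y * y = 1 := by
            rw [← zpow_two, ← e]
            change (u ^ (2 : ℤ)) ^ j = 1
            rw [← zpow_mul, mul_comm, zpow_mul, uj, one_zpow]
          rcases Y2 a y ha hy.2.2 hy.1 hy.2.1 e' with rfl | rfl
          exacts [Or.inl (one_mem _), Or.inl (Y3 u hu u1)]
        refine Or.inl (zpowers_le.2 (zpow_mem (mem_zpowers u) j) (Y4 y _ hy (Y1 u hu j) ?_ uj))
        rw [← zpow_two, ← e]
        change (u ^ (2 : ℤ)) ^ j = _
        group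
      intro y u hy hu e
      rcases ih _ _ (Y1 y hy 2) (Y1 u hu 2) (by
        rw [zpow_two, ← pow_two, ← pow_mul, ← pow_succ', e]) with k | k
      exacts [key y u hy hu k, (key u y hu hy k).symm]
  have Yz : Y z := ⟨zS, zp, h.hm_mul hG h4 ha hz (zc a aS) az⟩
  obtain ⟨_, zv, ⟨v, hv, rfl⟩, hmax⟩ := Finite.exists_le_maximal
    (p := fun N : Subgroup G => ∃ y, Y y ∧ N = zpowers y) ⟨z, Yz, rfl⟩
  refine ⟨z, a, v, ρ, p, q, x, zS, aS, hv.1, hρ'.1.1.1, hz, ha, hv.2.2, zc, pO, qO, xO, pq, px, qx,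
    fun X hX => ⟨zf X hX, by rintro (rfl | rfl) <;> assumption⟩, ap, aq, hv.2.1, hρ'.1.2, hρ'.2,
    mem_centralizer_singleton_iff.1 hρ'.1.1.2, zv (mem_zpowers z), sp, sq, fun b hb k => ?_,
    fun s hs e1 e2 => ?_⟩
  · refine or_iff_not_imp_left.2 fun bz => ?_
    have e : a * (a * b) = b := by rw [← mul_assoc, ha.1, one_mul]
    have hy : Y (a * b) := ⟨mul_mem aS hb, by
      rw [mul_smul, (sp b hb).resolve_left fun e => bz (one b hb k p pO zp e), aq], e.symm ▸ k⟩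
    obtain ⟨m, hm⟩ := S.isPGroup' ⟨_, hy.1⟩
    have : a * b ∈ zpowers v := (Y5 m _ _ hy hv (congrArg Subtype.val hm)).elim id fun k =>
      hmax ⟨_, hy, rfl⟩ (zpowers_le.2 k) (mem_zpowers _)
    obtain ⟨i, hi⟩ := this
    exact ⟨i, by rw [← e, ← hi]⟩
  · rw [hρ]
    exact (hr s hs e1 e2).imp (fun e => ⟨⟨⟨hs, mem_centralizer_singleton_iff.2 e2⟩, e1⟩, e⟩)
      fun e => ⟨⟨⟨mul_mem zS hs, mem_centralizer_singleton_iff.2 (by
        rw [mul_assoc, e2, ← mul_assoc, ← zc a aS, mul_assoc])⟩, by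
          change (z * s) • p = p
          rw [mul_smul, e1, zp]⟩, e⟩

end Ov

end H52.Oval
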