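import Mathlib
import Cfsg.Agent.Lib.Oval.Su

/-!
The dihedral subgroup generated by the homologies of a Sylow `2`-subgroup.
-/

set_option autoImplicit false
set_option linter.unusedSectionVars false

noncomputable section

namespace H52.Oval

open Configuration Finset Subgroup
open scoped Classical

variable {P L : Type*} [Membership P L] [Fintype P] [Fintype L] [ProjectivePlane P L]
variable {G : Type*} [Group G] [MulAction G P] [MulAction G L] {O : Finset P}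

/-- `s` conjugates `a` to `a v^i` with `i` even. -/
def Ev (a v s : G) : Prop := ∃ k : ℤ, s * a * s⁻¹ = a * v ^ (2 * k)

/-- `s` conjugates `a` to `a v^i` with `i` odd. -/
def Od (a v s : G) : Prop := ∃ k : ℤ, s * a * s⁻¹ = a * v ^ (2 * k + 1)

namespace Su

variable {S : Sylow 2 G} {z a v ρ : G} {p q x : P} (u : Su O (S : Subgroup G) z a v ρ p q x)
include u

theorem va (i : ℤ) : v ^ i * a = a * v ^ (-i) := conj_refl u.ha.1 u.hv.1 i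

theorem ai : a⁻¹ = a := inv_eq_of_mul_eq_one_right u.ha.1

theorem aa (g : G) : a * (a * g) = g := by rw [← mul_assoc, u.ha.1, one_mul]

/-- The subgroup generated by the homologies. -/
def W : Subgroup G where
  carrier := {g | ∃ i : ℤ, g = v ^ i ∨ g = a * v ^ i}
  one_mem' := ⟨0, Or.inl (zpow_zero v).symm⟩
  mul_mem' := by
    rintro _ _ ⟨i, rfl | rfl⟩ ⟨j, rfl | rfl⟩
    · exact ⟨i + j, Or.inl (zpow_add v i j).symm⟩
    · exact ⟨j - i, Or.inr (by rw [← mul_assoc, u.va]; group)⟩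
    · exact ⟨i + j, Or.inr (by group)⟩
    · exact ⟨j - i, Or.inl (refl_mul_refl u.ha.1 u.hv.1 i j)⟩
  inv_mem' := by
    rintro _ ⟨i, rfl | rfl⟩
    · exact ⟨-i, Or.inl (zpow_neg v i).symm⟩
    · exact ⟨i, Or.inr (by rw [mul_inv_rev, u.ai, ← zpow_neg, u.va, neg_neg])⟩

theorem vW (i : ℤ) : v ^ i ∈ u.W := ⟨i, Or.inl rfl⟩

theorem avW (i : ℤ) : a * v ^ i ∈ u.W := ⟨i, Or.inr rfl⟩

theorem aW : a ∈ u.W := ⟨0, Or.inr (by simp)⟩

theorem zW : z ∈ u.W := by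
  obtain ⟨i, hi⟩ := u.zv
  exact ⟨i, Or.inl hi.symm⟩

theorem W_le : u.W ≤ S := by
  rintro _ ⟨i, rfl | rfl⟩
  exacts [zpow_mem u.vS i, mul_mem u.aS (zpow_mem u.vS i)]

theorem vp' (i : ℤ) : v ^ i • p = p := (MulAction.stabilizer G p).zpow_mem u.vp i

theorem avp (i : ℤ) : (a * v ^ i) • p ≠ p := by
  rw [mul_smul, u.vp', u.ap]
  exact u.pq.symm

theorem zp : z • p = p := (u.zf p u.pO).2 (Or.inl rfl)

theorem W0 {w : G} (hw : w ∈ u.W) (hp : w • p = p) : ∃ i : ℤ, w = v ^ i := by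
  obtain ⟨i, e | e⟩ := hw
  · exact ⟨i, e⟩
  · exact absurd (e ▸ hp) (u.avp i)

theorem hmW {b : G} (hb : b ∈ S) (k : Hm O b) : b ∈ u.W := by
  rcases u.hs b hb k with rfl | ⟨i, rfl⟩
  exacts [u.zW, u.avW i]

theorem pow_odd {i : ℤ} (hi : Odd i) : ∃ j : ℤ, v = (v ^ i) ^ j := by
  obtain ⟨k, hk⟩ := S.isPGroup' ⟨v, u.vS⟩
  have h1 : v ^ ((2 : ℤ) ^ k) = 1 := by
    have : v ^ 2 ^ k = 1 := congrArg Subtype.val hk
    rw [← zpow_natCast] at this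
    exact_mod_cast this
  obtain ⟨m, n, e⟩ : IsCoprime i ((2 : ℤ) ^ k) := (Int.isCoprime_two_right.2 hi).pow_right
  exact ⟨m, by
    calc v = v ^ (m * i + n * 2 ^ k) := by rw [e, zpow_one]
      _ = _ := by rw [zpow_add, mul_comm n, zpow_mul v (2 ^ k), h1, one_zpow, mul_one, mul_comm,
        zpow_mul]⟩

theorem R_S {r : G} (hr : r ∈ zpowers ρ) : r ∈ S := zpowers_le.2 u.rS hr

theorem R_p {r : G} (hr : r ∈ zpowers ρ) : r • p = p :=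
  zpowers_le.2 (show ρ ∈ MulAction.stabilizer G p from u.rp) hr

theorem R_x {r : G} (hr : r ∈ zpowers ρ) : r • x = x :=
  zpowers_le.2 (show ρ ∈ MulAction.stabilizer G x from u.rx) hr

theorem R_a {r : G} (hr : r ∈ zpowers ρ) : r * a = a * r := by
  obtain ⟨i, rfl⟩ := hr
  exact (Commute.zpow_left u.ra i).eq

omit u in
theorem R_c {r s : G} (hr : r ∈ zpowers ρ) (hs : s ∈ zpowers ρ) : r * s = s * r := by
  obtain ⟨i, rfl⟩ := hr
  obtain ⟨j, rfl⟩ := hs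
  exact zpow_mul_comm ρ i j

theorem zR : z ∉ zpowers ρ := fun k => ((u.zf x u.xO).1 (u.R_x k)).elim u.px.symm u.qx.symm

theorem dec0 {s : G} (hs : s ∈ S) (hp : s • p = p) (e : Ev a v s) :
    ∃ i : ℤ, ∃ r ∈ zpowers ρ, s = v ^ i * r := by
  obtain ⟨k, e⟩ := e
  have h1 : v ^ k * s * a = a * (v ^ k * s) := by
    rw [mul_assoc, mul_inv_eq_iff_eq_mul.1 e, ← mul_assoc, ← mul_assoc, u.va]; group
  rcases u.hr _ (mul_mem (zpow_mem u.vS k) hs) (by rw [mul_smul, hp, u.vp']) h1 with k1 | k1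
  · exact ⟨-k, _, k1, by group⟩
  · obtain ⟨j, hj⟩ := u.zv
    refine ⟨-k - j, _, k1, ?_⟩
    rw [← hj]; group

theorem dec {s : G} (hs : s ∈ S) (e : Ev a v s) : ∃ w ∈ u.W, ∃ r ∈ zpowers ρ, s = w * r := by
  rcases u.sp s hs with hp | hp
  · obtain ⟨i, r, hr, e⟩ := u.dec0 hs hp e
    exact ⟨_, u.vW i, r, hr, e⟩
  · obtain ⟨k, e⟩ := e
    obtain ⟨i, r, hr, e⟩ := u.dec0 (mul_mem u.aS hs) (by rw [mul_smul, hp, u.aq]) ⟨-k, by
      rw [show a * s * a * (a * s)⁻¹ = a * (s * a * s⁻¹) * a⁻¹ by group, e, u.aa, u.ai, u.va]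
      group⟩
    exact ⟨_, u.avW i, r, hr, by rw [mul_assoc, ← e, u.aa]⟩

variable (h : Ov L G O)
include h

theorem even_of_pow {i : ℤ} (e : v ^ i = 1) : Even i := by
  by_contra hn
  obtain ⟨j, hj⟩ := u.pow_odd (Int.not_even_iff_odd.1 hn)
  obtain ⟨k, hk⟩ := u.zv
  exact h.hm_ne u.hz (by rw [← hk, hj, e]; simp)

theorem hm_av (i : ℤ) : Hm O (a * v ^ i) := h.hm_refl u.ha u.hv i

theorem conj_av {s : G} (hs : s ∈ S) (i : ℤ) : ∃ j : ℤ, s * (a * v ^ i) * s⁻¹ = a * v ^ j :=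
  (u.hs _ (mul_mem (mul_mem hs (u.W_le (u.avW i))) (inv_mem hs)) (h.hm_conj (u.hm_av h i) s)).resolve_left
    fun e => u.avp i (by
      rw [mul_inv_eq_iff_eq_mul, ← u.zc s hs] at e
      rw [mul_left_cancel e, u.zp])

theorem ev_or_od {s : G} (hs : s ∈ S) : Ev a v s ∨ Od a v s := by
  obtain ⟨j, hj⟩ := u.conj_av h hs 0
  rw [zpow_zero, mul_one] at hj
  rcases Int.even_or_odd' j with ⟨k, rfl | rfl⟩
  exacts [Or.inl ⟨k, hj⟩, Or.inr ⟨k, hj⟩]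

theorem conj_v {s : G} (hs : s ∈ S) : ∃ t : ℤ, ∀ i : ℤ, s * v ^ i * s⁻¹ = v ^ ((2 * t + 1) * i) := by
  have key : ∀ s ∈ S, ∃ t : ℤ, ∀ i : ℤ, s * v ^ i * s⁻¹ = v ^ (t * i) := fun s hs => by
    obtain ⟨i, hi⟩ := u.conj_av h hs 0
    obtain ⟨j, hj⟩ := u.conj_av h hs 1
    refine ⟨j - i, fun k => ?_⟩
    rw [← conj_zpow, zpow_mul, ← refl_mul_refl u.ha.1 u.hv.1, ← hi, ← hj]
    congr 1
    calc s * v * s⁻¹ = s * (a * (a * v)) * s⁻¹ := by rw [u.aa]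
      _ = _ := by group
  obtain ⟨t, ht⟩ := key s hs
  obtain ⟨t', ht'⟩ := key _ (inv_mem hs)
  have h1 := u.even_of_pow h (i := t * t' - 1) (by
    have := ht' 1
    rw [zpow_sub, ← ht, ← mul_one t', ← this]; group)
  obtain ⟨k, rfl⟩ : Odd t := (Int.odd_mul.1 (by simpa [parity_simps] using h1)).1
  exact ⟨k, ht⟩

theorem conj_W {s w : G} (hs : s ∈ S) (hw : w ∈ u.W) : s * w * s⁻¹ ∈ u.W := by
  obtain ⟨i, rfl | rfl⟩ := hw
  · obtain ⟨t, ht⟩ := u.conj_v h hs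
    exact ht i ▸ u.vW _
  · obtain ⟨j, hj⟩ := u.conj_av h hs i
    exact hj ▸ u.avW j

theorem od_mul {s t : G} (hs : s ∈ S) (e1 : Od a v s) (e2 : Od a v t) : Ev a v (s * t) := by
  obtain ⟨i, e1⟩ := e1
  obtain ⟨j, e2⟩ := e2
  obtain ⟨k, hk⟩ := u.conj_v h hs
  refine ⟨i + j + k + 2 * j * k + 1, ?_⟩
  calc s * t * a * (s * t)⁻¹ = s * (t * a * t⁻¹) * s⁻¹ := by group
    _ = s * a * s⁻¹ * (s * v ^ (2 * j + 1) * s⁻¹) := by rw [e2]; group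
    _ = _ := by rw [e1, hk]; group

theorem ev_of_comm {s : G} (hs : s ∈ S) (e : s * (a * v) = a * v * s) : Ev a v s := by
  refine (u.ev_or_od h hs).resolve_right fun ⟨i, hi⟩ => ?_
  obtain ⟨k, hk⟩ := u.conj_v h hs
  have h1 : a * v = a * v ^ (2 * i + 1 + (2 * k + 1) * 1) := by
    rw [zpow_add, ← mul_assoc, ← hi, ← hk, ← mul_inv_cancel_right (a * v) s, ← e]; group
  have := u.even_of_pow h (i := 2 * (i + k) + 1) (by
    rw [← mul_inv_cancel v]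
    nth_rewrite 2 [mul_left_cancel h1]
    group)
  exact Int.not_even_two_mul_add_one _ this

theorem exists_c {s : G} (hs : s ∈ S) (e : Od a v s) : ∃ c ∈ S, c • p = p ∧ c * a * c⁻¹ = a * v := by
  obtain ⟨k, e⟩ := e
  have h1 : v ^ k * s * a * (v ^ k * s)⁻¹ = a * v := by
    calc _ = v ^ k * (s * a * s⁻¹) * v ^ (-k) := by group
      _ = _ := by rw [e, ← mul_assoc, u.va]; group
  have h2 := mul_mem (zpow_mem u.vS k) hs
  generalize v ^ k * s = c at h1 h2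
  by_cases hp : c • p = p
  · exact ⟨c, h2, hp, h1⟩
  · refine ⟨c * a, mul_mem h2 u.aS, ?_, by rw [← h1]; group⟩
    rw [mul_smul, u.ap]
    exact ((u.zf _ (h.inv c q u.qO)).1 (smul_fix (u.zc c h2) ((u.zf q u.qO).2 (Or.inr rfl)))).resolve_right
      fun e => u.pq (MulAction.injective c (((u.sp c h2).resolve_left hp).trans e.symm))

variable [FaithfulSMul G P]

theorem RW {r : G} (hr : r ∈ zpowers ρ) (hw : r ∈ u.W) : r = 1 := by
  obtain ⟨i, e⟩ := u.W0 hw (u.R_p hr)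
  by_contra hne
  have k1 := h.pow_le u.ha u.hv (e ▸ hne)
  have := three_le_fo (s := {r}) u.pO u.qO u.xO u.pq u.px u.qx (fx_single.2 (u.R_p hr))
    (fx_single.2 (u.sq _ (u.R_S hr) (u.R_p hr))) (fx_single.2 (u.R_x hr))
  rw [← e] at k1
  omega

theorem not_hm {r : G} (hr : r ∈ zpowers ρ) : ¬ Hm O r := fun k =>
  h.hm_ne k (u.RW h hr (u.hmW (u.R_S hr) k))

theorem sq_eq_one {w r : G} (hw : w ∈ u.W) (hr : r ∈ zpowers ρ) (e : w * r * (w * r) ∈ u.W) :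
    r * r = 1 :=
  u.RW h (mul_mem hr hr) (by
    simpa [mul_assoc] using mul_mem (inv_mem (mul_mem hw (u.conj_W h (u.R_S hr) hw))) e)

theorem comm_W {c : G} (cS : c ∈ S) (h1 : c * ρ * c⁻¹ * ρ⁻¹ ∈ u.W)
    (h2 : ∀ s ∈ S, Ev a v s ∨ Ev a v (s * c)) : ∀ s ∈ S, ∀ t ∈ S, s * t * s⁻¹ * t⁻¹ ∈ u.W := by
  have : (u.W.subgroupOf S).Normal := ⟨fun w hw g => u.conj_W h g.2 hw⟩
  let π := QuotientGroup.mk' (u.W.subgroupOf S)
  have k0 : ∀ w : (S : Subgroup G), w.1 ∈ u.W ↔ π w = 1 := fun w =>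
    (QuotientGroup.eq_one_iff (N := u.W.subgroupOf S) w).symm
  have k1 : ∀ s : (S : Subgroup G), Ev a v s → ∃ j : ℤ, π s = π ⟨ρ, u.rS⟩ ^ j := fun s e => by
    obtain ⟨w, hw, _, ⟨j, rfl⟩, e⟩ := u.dec s.2 e
    refine ⟨j, ?_⟩
    rw [show s = ⟨w, u.W_le hw⟩ * ⟨ρ, u.rS⟩ ^ j from Subtype.ext e, map_mul, (k0 _).1 hw, one_mul,
      map_zpow]
  have k2 : Commute (π ⟨c, cS⟩) (π ⟨ρ, u.rS⟩) := by
    have := (k0 (⟨c, cS⟩ * ⟨ρ, u.rS⟩ * ⟨c, cS⟩⁻¹ * ⟨ρ, u.rS⟩⁻¹)).1 h1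
    rwa [map_mul, map_mul, map_mul, map_inv, map_inv, mul_inv_eq_one, mul_inv_eq_iff_eq_mul] at this
  have k3 : ∀ s : (S : Subgroup G), ∃ j k : ℤ, π s = π ⟨ρ, u.rS⟩ ^ j * π ⟨c, cS⟩ ^ k := fun s => by
    rcases h2 s s.2 with e | e
    · obtain ⟨j, hj⟩ := k1 s e
      exact ⟨j, 0, by simpa using hj⟩
    · obtain ⟨j, hj⟩ := k1 (s * ⟨c, cS⟩) e
      exact ⟨j, -1, by rw [← hj, map_mul]; group⟩
  intro s hs t ht
  refine (k0 (⟨s, hs⟩ * ⟨t, ht⟩ * ⟨s, hs⟩⁻¹ * ⟨t, ht⟩⁻¹)).2 ?_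
  obtain ⟨i, j, e1⟩ := k3 ⟨s, hs⟩
  obtain ⟨k, l, e2⟩ := k3 ⟨t, ht⟩
  rw [map_mul, map_mul, map_mul, map_inv, map_inv, mul_inv_eq_one, mul_inv_eq_iff_eq_mul, e1, e2]
  exact (((Commute.zpow_zpow_self _ i k).mul_right (k2.symm.zpow_zpow i l)).mul_left
    ((k2.zpow_zpow j k).mul_right (Commute.zpow_zpow_self _ j l))).eq

variable [Finite G] [IsSimpleGroup G] (hG : ¬ IsMulCommutative G)
  (h4 : ProjectivePlane.order P L % 4 = 1)
include hG h4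

theorem hm_of_W {w : G} (hw : w ∈ u.W) (ww : w * w = 1) (w1 : w ≠ 1) : Hm O w := by
  obtain ⟨i, rfl | rfl⟩ := hw
  exacts [h.hm_of_le hG h4 ww (h.pow_le u.ha u.hv w1), u.hm_av h i]

theorem eq_z {i : ℤ} (ww : v ^ i * v ^ i = 1) : v ^ i = 1 ∨ v ^ i = z :=
  or_iff_not_imp_left.2 fun w1 => (u.hs _ (zpow_mem u.vS i)
    (u.hm_of_W h hG h4 (u.vW i) ww w1)).resolve_right fun ⟨j, e⟩ => u.avp j (e ▸ u.vp' i)

theorem eq_inv {β r : G} (hβ : β ∈ zpowers ρ) (ββ : β * β = 1) (β1 : β ≠ 1) (hr : r ∈ zpowers ρ)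
    (rr : r * r = 1) : r = 1 ∨ r = β := by
  by_contra hn
  push Not at hn
  rcases h.hm_four hG h4 rr ββ (R_c hr hβ) hn.1 β1 hn.2 with k | k | k
  exacts [u.not_hm h hr k, u.not_hm h hβ k, u.not_hm h (mul_mem hr hβ) k]

theorem baer_ev {t : G} (ht : t ∈ S) (e : Ev a v t) (tt : t * t = 1) (t1 : t ≠ 1) (k : ¬ Hm O t) :
    ∃ r ∈ zpowers ρ, r * r = 1 ∧ r ≠ 1 ∧ t * r ∈ u.W := by
  obtain ⟨w, hw, r, hr, rfl⟩ := u.dec ht e
  have rr := u.sq_eq_one h hw hr (tt ▸ one_mem _)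
  refine ⟨r, hr, rr, fun e => k (u.hm_of_W h hG h4 (by simpa [e] using hw) tt t1), ?_⟩
  rwa [mul_assoc, rr, mul_one]

end Su

end H52.Oval
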