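import Mathlib
import Cfsg.Agent.S3224
import Cfsg.Agent.Lib.Oval.SuB

/-!
There are no Baer involutions in a simple group preserving an oval, order `1 mod 4`.
-/

set_option autoImplicit false
set_option linter.unusedSectionVars false

noncomputable section

namespace H52.Oval

open Configuration Finset Subgroup
open scoped Classical

variable {P L : Type*} [Membership P L] [Fintype P] [Fintype L] [ProjectivePlane P L]
variable {G : Type*} [Group G] [MulAction G P] [MulAction G L] {O : Finset P}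

/-- An involution which is not a homology. -/
def Ba (O : Finset P) (t : G) : Prop := t * t = 1 ∧ t ≠ 1 ∧ ¬ Hm O t

theorem Ov.ba_conj (h : Ov L G O) {t : G} (k : Ba O t) (g : G) : Ba O (g * t * g⁻¹) :=
  ⟨by rw [show g * t * g⁻¹ * (g * t * g⁻¹) = g * (t * t) * g⁻¹ by group, k.1]; group,
    fun e => k.2.1 (by simpa using e), fun e => k.2.2 (by simpa [mul_assoc] using h.hm_conj e g⁻¹)⟩

namespace Su

variable {S : Sylow 2 G} {z a v ρ : G} {p q x : P} (u : Su O (S : Subgroup G) z a v ρ p q x)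
  (h : Ov L G O) [FaithfulSMul G P] [Finite G] [IsSimpleGroup G] (hG : ¬ IsMulCommutative G)
  (h4 : ProjectivePlane.order P L % 4 = 1) {c : G} (cS : c ∈ S) (hc : c * a * c⁻¹ = a * v)
include u h hG h4

theorem ba_W {t : G} (k : Ba O t) : t ∉ u.W := fun e => k.2.2 (u.hm_of_W h hG h4 e k.1 k.2.1)

include cS hc

theorem od_c : Od a v c := ⟨0, by simpa using hc⟩

theorem ev_or_ev {s : G} (hs : s ∈ S) : Ev a v s ∨ Ev a v (s * c) :=
  (u.ev_or_od h hs).imp id fun e => u.od_mul h hs e (u.od_c h hG h4 cS hc)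

theorem conj_a (i : ℤ) : ∃ s ∈ S, s * a * s⁻¹ = a * v ^ i := by
  rcases Int.even_or_odd' i with ⟨k, rfl | rfl⟩
  · exact ⟨v ^ (-k), zpow_mem u.vS _, by rw [u.va]; group⟩
  · refine ⟨v ^ (-k) * c, mul_mem (zpow_mem u.vS _) cS, ?_⟩
    calc _ = v ^ (-k) * (c * a * c⁻¹) * v ^ k := by group
      _ = _ := by rw [hc, ← mul_assoc, u.va]; group

theorem cent_of {γ : G} (h1 : Commute γ a) (h2 : Commute γ v) (h3 : Commute γ ρ) (h5 : Commute γ c) :
    ∀ s ∈ S, s * γ = γ * s := by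
  have key : ∀ s ∈ S, Ev a v s → Commute γ s := fun s hs e => by
    obtain ⟨_, ⟨i, rfl | rfl⟩, _, ⟨j, rfl⟩, rfl⟩ := u.dec hs e
    exacts [(h2.zpow_right i).mul_right (h3.zpow_right j),
      (h1.mul_right (h2.zpow_right i)).mul_right (h3.zpow_right j)]
  intro s hs
  rcases u.ev_or_ev h hG h4 cS hc hs with e | e
  · exact (key s hs e).symm.eq
  · simpa using ((key _ (mul_mem hs cS) e).mul_right h5.inv_right).symm.eq

theorem not_central {γ : G} (γS : γ ∈ S) (k : Ba O γ) (hγ : ∀ s ∈ S, s * γ = γ * s) : False := by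
  have k1 : ∀ γ : G, (∀ s ∈ S, s * γ = γ * s) → ∀ i : ℤ, IsConj (γ * a) (γ * (a * v ^ i)) :=
    fun γ hγ i => by
      obtain ⟨s, hs, e⟩ := u.conj_a h hG h4 cS hc i
      exact isConj_iff.2 ⟨s, by rw [← e, ← mul_assoc, hγ s hs]; group⟩
  have k2 : ∀ γ ∈ S, Ba O γ → (∀ s ∈ S, s * γ = γ * s) → IsConj γ (γ * z) ∨ IsConj γ (γ * a) :=
    fun γ γS k hγ => by
      obtain ⟨g, g1, g2⟩ := exists_conj_ne hG S k.1 k.2.1 γS
      have k' := h.ba_conj k g
      have e : g * γ * g⁻¹ = γ * (γ * (g * γ * g⁻¹)) := by rw [← mul_assoc γ, k.1, one_mul]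
      have := ((h.hm_four hG h4 k.1 k'.1 (hγ _ g1).symm k.2.1 k'.2.1 g2.symm).resolve_left
        k.2.2).resolve_left k'.2.2
      rcases u.hs _ (mul_mem γS g1) this with e' | ⟨i, e'⟩ <;> rw [e'] at e
      exacts [Or.inl (isConj_iff.2 ⟨g, e⟩), Or.inr ((isConj_iff.2 ⟨g, e⟩).trans (k1 γ hγ i).symm)]
  have e0 : γ * z * z = γ := by rw [mul_assoc, u.hz.1, mul_one]
  have k3 : Ba O (γ * z) := by
    refine ⟨by rw [mul_assoc, ← mul_assoc z, hγ z u.zS, e0, k.1], fun e => k.2.2 ?_,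
      fun e => k.2.2 (e0 ▸ h.hm_mul hG h4 e u.hz (u.zc _ (mul_mem γS u.zS)) (by simpa using k.2.1))⟩
    rw [← e0, e, one_mul]
    exact u.hz
  have k4 : IsConj γ (γ * z) := by
    refine (k2 γ γS k hγ).elim id fun e1 => ?_
    rcases k2 _ (mul_mem γS u.zS) k3 (fun s hs => by
      rw [← mul_assoc, hγ s hs, mul_assoc, u.zc s hs, mul_assoc]) with e2 | e2
    · exact (e0 ▸ e2).symm
    · obtain ⟨j, hj⟩ := u.zv
      refine e1.trans ((k1 γ hγ j).trans ?_)
      rw [show v ^ j = z from hj, u.zc a u.aS, ← mul_assoc]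
      exact e2.symm
  refine h.hm_ne u.hz (burn S hγ u.zc u.hz.1 k4 fun n hn => ?_)
  have hn' := mem_normalizer_iff.1 (inv_mem hn)
  refine (u.hs _ (by simpa using (hn' z).1 u.zS) (by simpa using h.hm_conj u.hz n⁻¹)).resolve_right
    fun ⟨i, e⟩ => ?_
  obtain ⟨t, ht⟩ := u.conj_v h cS
  have e1 : c * (a * v ^ i) * c⁻¹ = a * v ^ i := by
    calc c * (a * v ^ i) * c⁻¹ = n⁻¹ * (n * c * n⁻¹ * z) * n * c⁻¹ := by rw [← e]; group
      _ = _ := by rw [u.zc _ ((mem_normalizer_iff.1 hn c).1 cS), ← e]; group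
  have e2 : a * v ^ (2 * (t * i) + 1) * v ^ i = a * v ^ i := by
    calc _ = a * v * v ^ ((2 * t + 1) * i) := by group
      _ = _ := by rw [← hc, ← ht, ← e1]; group
  exact Int.not_even_two_mul_add_one _ (u.even_of_pow h (by simpa using e2))

variable (cp : c • p = p)
include cp

theorem dec_conj {r : G} (hr : r ∈ zpowers ρ) :
    c * r * c⁻¹ * (a * v) = a * v * (c * r * c⁻¹) ∧ ∃ i : ℤ, ∃ r' ∈ zpowers ρ, c * r * c⁻¹ = v ^ i * r' := by
  have h1 : c * r * c⁻¹ * (a * v) = a * v * (c * r * c⁻¹) := by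
    calc _ = c * (r * a) * c⁻¹ := by rw [← hc]; group
      _ = _ := by rw [u.R_a hr, ← hc]; group
  have h2 := mul_mem (mul_mem cS (u.R_S hr)) (inv_mem cS)
  exact ⟨h1, u.dec0 h2 (by rw [mul_smul, mul_smul, inv_smul_eq_iff.2 cp.symm, u.R_p hr, cp])
    (u.ev_of_comm h h2 h1)⟩

variable {β : G} (hβ : β ∈ zpowers ρ) (ββ : β * β = 1) (β1 : β ≠ 1)
include hβ ββ β1

theorem conj_beta : β * v = v * β ∧ (c * β * c⁻¹ = β ∨ c * β * c⁻¹ = z * β) := by
  have kβ : Ba O β := ⟨ββ, β1, u.not_hm h hβ⟩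
  obtain ⟨h1, i, r, hr, e⟩ := u.dec_conj h hG h4 cS hc cp hβ
  have k := h.ba_conj kβ c
  rw [e] at k h1
  obtain rfl : r = β := (u.eq_inv h hG h4 hβ ββ β1 hr
    (u.sq_eq_one h (u.vW i) hr (k.1 ▸ one_mem _))).resolve_left fun e' =>
      u.ba_W h hG h4 k (by simpa [e'] using u.vW i)
  have h2 : r * v ^ i = v ^ (-i) * r := by
    calc r * v ^ i = v ^ (-i) * (v ^ i * r * (v ^ i * r)) * r := by
          rw [show v ^ (-i) * (v ^ i * r * (v ^ i * r)) * r = r * v ^ i * (r * r) by group, ββ, mul_one]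
      _ = _ := by rw [k.1, mul_one]
  have h3 : v ^ i * v ^ i = 1 := by
    by_contra hne
    obtain ⟨m, m1, m2⟩ := exists_half S.isPGroup' (mul_mem (zpow_mem u.vS i) (zpow_mem u.vS i)) hne
    have e1 : (v ^ i * v ^ i) ^ 2 ^ m = v ^ (i * (2 ^ (m + 1) : ℕ)) := by
      rw [zpow_mul, zpow_natCast, ← pow_two, ← pow_mul, ← pow_succ']
    rw [e1] at m1 m2
    have e2 := (u.eq_z h hG h4 m1).resolve_left m2
    rw [zpow_mul, zpow_natCast] at e2
    have e3 : v ^ i * (a * r) = a * r * v ^ i := by rw [mul_assoc, h2, ← mul_assoc, u.va, mul_assoc]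
    have k1 := pow_dvd_card (T := {X ∈ O | (a * r) • X = X}) (g := v ^ i) (i := m + 1)
      (fun X hX => mem_filter.2 ⟨h.inv _ X (mem_filter.1 hX).1, smul_fix e3 (mem_filter.1 hX).2⟩)
      (fun X _ => by rw [pow_succ, pow_mul, e2, pow_two, u.hz.1, one_smul]) fun X hX e4 => by
        rw [e2] at e4
        obtain ⟨X1, X2⟩ := mem_filter.1 hX
        rcases (u.zf X X1).1 e4 with rfl | rfl
        · exact u.pq (by rw [← X2, mul_smul, u.R_p hr, u.ap])
        · exact u.pq (by rw [← X2, mul_smul, u.sq _ (u.R_S hr) (u.R_p hr), u.aq])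
    have k2 := h.fo_two hG h4 (t := a * r) (by
      rw [mul_assoc, ← mul_assoc r, u.R_a hr, mul_assoc, ββ, mul_one, u.ha.1])
    rw [fo_single] at k2
    obtain ⟨l, hl⟩ := k1
    rw [hl, show 2 ^ (m + 1 + 1) * l = 4 * (2 ^ m * l) by ring] at k2
    omega
  refine ⟨?_, by rcases u.eq_z h hG h4 h3 with e' | e' <;> simp [e, e']⟩
  rw [mul_assoc, ← mul_assoc r, u.R_a hr, ← mul_assoc, ← mul_assoc, u.va, mul_assoc, mul_assoc,
    mul_assoc, mul_left_cancel_iff] at h1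
  calc r * v = v ^ i * (v ^ (-i) * (r * v)) := by group
    _ = v * (v ^ i * v ^ i) * r := by rw [h1]; group
    _ = _ := by rw [h3, mul_one]

variable (hv : β * v = v * β) (hz : c * β * c⁻¹ = z * β)
include hv hz

theorem eq_of_comm {r : G} (hr : r ∈ zpowers ρ) (e : r * v = v * r) : r = 1 ∨ r = β := by
  refine u.eq_inv h hG h4 hβ ββ β1 hr (by_contra fun hne => ?_)
  obtain ⟨m, m1, m2⟩ := exists_half S.isPGroup' (u.R_S (mul_mem hr hr)) hne
  have e1 := (u.eq_inv h hG h4 hβ ββ β1 (pow_mem (mul_mem hr hr) _) m1).resolve_left m2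
  obtain ⟨t, ht⟩ := u.conj_v h (inv_mem cS)
  have h1 := (u.dec_conj h hG h4 cS hc cp hr).1
  have h2 : c * r * c⁻¹ * v = v * (c * r * c⁻¹) := by
    calc _ = c * (r * (c⁻¹ * v ^ (1 : ℤ) * c⁻¹⁻¹)) * c⁻¹ := by group
      _ = c * ((c⁻¹ * v ^ (1 : ℤ) * c⁻¹⁻¹) * r) * c⁻¹ := by rw [ht, (Commute.zpow_right e _).eq]
      _ = _ := by group
  have h3 : c * r * c⁻¹ * a = a * (c * r * c⁻¹) := by
    rw [← mul_assoc, mul_assoc a, ← h2, ← mul_assoc a] at h1
    exact mul_right_cancel h1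
  have hS := mul_mem (mul_mem cS (u.R_S hr)) (inv_mem cS)
  have h5 : c * r * c⁻¹ * (c * r * c⁻¹) ∈ zpowers ρ := by
    rcases u.hr _ hS (by rw [mul_smul, mul_smul, inv_smul_eq_iff.2 cp.symm, u.R_p hr, cp]) h3 with k | k
    · exact mul_mem k k
    · have := mul_mem k k
      rwa [mul_assoc, ← mul_assoc _ z, u.zc _ hS, mul_assoc z, ← mul_assoc z, u.hz.1, one_mul] at this
  have h6 := mul_mem (pow_mem h5 (2 ^ m)) hβ
  rw [show c * r * c⁻¹ * (c * r * c⁻¹) = c * (r * r) * c⁻¹ by group, conj_pow, e1, hz, mul_assoc, ββ,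
    mul_one] at h6
  exact u.zR h6

theorem conj_rho : c * ρ * c⁻¹ * ρ⁻¹ ∈ u.W := by
  obtain ⟨h1, i, r, hr, e⟩ := u.dec_conj h hG h4 cS hc cp (mem_zpowers ρ)
  obtain ⟨t, ht⟩ := u.conj_v h u.rS
  obtain ⟨σ, hσ⟩ := u.conj_v h cS
  obtain ⟨τ, hτ⟩ := u.conj_v h (inv_mem cS)
  have h2 : r * v * r⁻¹ = ρ * v * ρ⁻¹ := by
    calc r * v * r⁻¹ = v ^ (-i) * (v ^ i * r * v * (v ^ i * r)⁻¹) * v ^ i := by group
      _ = v ^ (-i) * (c * (ρ * (c⁻¹ * v ^ (1 : ℤ) * c⁻¹⁻¹) * ρ⁻¹) * c⁻¹) * v ^ i := by rw [← e]; group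
      _ = v ^ (-i) * (c * (c⁻¹ * v ^ ((2 * t + 1) * 1) * c⁻¹⁻¹) * c⁻¹) * v ^ i := by
        rw [hτ, hτ, ht]; ring_nf
      _ = v ^ ((2 * t + 1) * 1) := by group
      _ = _ := by rw [← ht, zpow_one]
  rcases u.eq_of_comm h hG h4 cS hc cp hβ ββ β1 hv hz (mul_mem (inv_mem (mem_zpowers ρ)) hr) (by
    calc ρ⁻¹ * r * v = ρ⁻¹ * (r * v * r⁻¹) * r := by group
      _ = _ := by rw [h2]; group) with k | k
  · rw [e, ← inv_mul_eq_one.1 k, mul_inv_cancel_right]
    exact u.vW i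
  exfalso
  obtain rfl := inv_mul_eq_iff_eq_mul.1 k
  obtain ⟨m, r, hr', e'⟩ := u.dec0 (mul_mem cS cS) (by rw [mul_smul, cp, cp])
    (u.od_mul h cS (u.od_c h hG h4 cS hc) (u.od_c h hG h4 cS hc))
  have e1 : v ^ (-(2 * m)) = v ^ (2 * (σ + 1)) := by
    refine mul_left_cancel (a := a) ?_
    calc a * v ^ (-(2 * m)) = v ^ m * (a * r) * r⁻¹ * v ^ (-m) := by rw [← mul_assoc, u.va]; group
      _ = v ^ m * r * a * (v ^ m * r)⁻¹ := by rw [← u.R_a hr']; group
      _ = c * (c * a * c⁻¹) * c⁻¹ := by rw [← e']; group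
      _ = c * a * c⁻¹ * (c * v ^ (1 : ℤ) * c⁻¹) := by
        nth_rewrite 1 [hc]
        group
      _ = _ := by rw [hc, hσ]; group
  have e2 : v ^ (2 * i) = v ^ (2 * t) := by
    have h3 : v ^ i * a * (ρ * v ^ (1 : ℤ) * ρ⁻¹) * (ρ * β) = a * v * (v ^ i * (ρ * β)) := by
      rw [← e, ← h1, e]
      calc _ = v ^ i * (a * ρ) * (v * β) := by group
        _ = v ^ i * ρ * (a * β) * v := by rw [← u.ra, ← hv]; group
        _ = _ := by rw [← u.R_a hβ]; group
    rw [ht, u.va, ← mul_assoc (a * v), mul_right_cancel_iff, mul_assoc, mul_assoc,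
      mul_left_cancel_iff] at h3
    calc v ^ (2 * i) = v ^ (i - 1) * (v * v ^ i) := by group
      _ = _ := by rw [← h3]; group
  have e3 : v ^ (2 * i * (σ + 1)) * z * ρ = v ^ (-(2 * m) * t) * ρ := by
    calc _ = v ^ ((2 * σ + 1) * i) * (v ^ i * (z * ρ) * (β * β)) := by rw [ββ]; group
      _ = v ^ ((2 * σ + 1) * i) * (v ^ i * ρ * (z * β) * β) := by rw [← u.zc ρ u.rS]; group
      _ = v ^ ((2 * σ + 1) * i) * (v ^ i * ρ * (β * z) * β) := by rw [← u.zc β (u.R_S hβ)]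
      _ = v ^ ((2 * σ + 1) * i) * (v ^ i * (ρ * β)) * (z * β) := by group
      _ = c * v ^ i * c⁻¹ * (c * ρ * c⁻¹) * (c * β * c⁻¹) := by rw [hσ, e, hz]
      _ = c * (v ^ i * (ρ * β)) * c⁻¹ := by group
      _ = v ^ m * r * ρ * (v ^ m * r)⁻¹ := by rw [← e, ← e']; group
      _ = v ^ m * (r * ρ) * r⁻¹ * v ^ (-m) := by group
      _ = v ^ m * (ρ * v ^ (-m) * ρ⁻¹) * ρ := by rw [R_c hr' (mem_zpowers ρ)]; group
      _ = _ := by rw [ht]; group
  rw [mul_right_cancel_iff, zpow_mul, zpow_mul v (-(2 * m)), e1, e2, ← zpow_mul, ← zpow_mul,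
    show 2 * (σ + 1) * t = 2 * t * (σ + 1) by ring, mul_eq_left] at e3
  exact h.hm_ne u.hz e3

theorem od_inv (vv : v * v ≠ 1) {s t : G} (hs : s ∈ S) (ht : t ∈ S) (os : Od a v s) (ot : Od a v t)
    (ss : s * s = 1) (tt : t * t = 1) : s * t ∈ u.W := by
  have hab := u.comm_W h cS (u.conj_rho h hG h4 cS hc cp hβ ββ β1 hv hz)
    fun s hs => u.ev_or_ev h hG h4 cS hc hs
  have si : s⁻¹ = s := inv_eq_of_mul_eq_one_right ss
  have ti : t⁻¹ = t := inv_eq_of_mul_eq_one_right tt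
  have kW : ∀ w ∈ u.W, Commute β w := by
    rintro _ ⟨i, rfl | rfl⟩
    exacts [Commute.zpow_right hv i, Commute.mul_right (u.R_a hβ) (Commute.zpow_right hv i)]
  have h0 : s * β * s⁻¹ = z * β := by
    obtain ⟨w, hw, r, hr, e⟩ := u.dec (mul_mem hs cS) (u.od_mul h hs os (u.od_c h hG h4 cS hc))
    have k1 : Commute (z * β) (s * c) := e ▸ Commute.mul_left
      (u.zc _ (mul_mem (u.W_le hw) (u.R_S hr))).symm ((kW w hw).mul_right (R_c hβ hr))
    have k2 : c * (z * β) * c⁻¹ = β := by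
      rw [← mul_assoc, u.zc c cS, mul_assoc z, mul_assoc z, hz, ← mul_assoc, u.hz.1, one_mul]
    calc s * β * s⁻¹ = s * c * (z * β) * (s * c)⁻¹ := by rw [← k2]; nth_rewrite 2 [k2]; group
      _ = _ := by rw [← k1.eq]; group
  obtain ⟨w, hw, r, hr, e⟩ := u.dec (mul_mem hs ht) (u.od_mul h hs os ot)
  have h1 := hab s hs t ht
  rw [si, ti, mul_assoc, e] at h1
  rcases u.eq_inv h hG h4 hβ ββ β1 hr (u.sq_eq_one h hw hr h1) with rfl | rfl
  · rwa [e, mul_one]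
  exfalso
  have h2 : s * w * s⁻¹ * w = z := by
    have e1 : t = s * (w * r) := by rw [← e, ← mul_assoc, ss, one_mul]
    have e2 : s * w * s⁻¹ * (s * r * s⁻¹) * (w * r) = 1 := by
      rw [← tt, e1]
      nth_rewrite 2 [si]
      group
    rw [h0, mul_assoc, mul_assoc z, ← mul_assoc r, (kW w hw).eq, mul_assoc w, ββ, mul_one,
      ← u.zc w (u.W_le hw), ← mul_assoc] at e2
    rw [eq_inv_of_mul_eq_one_left e2, inv_eq_of_mul_eq_one_left u.hz.1]
  obtain ⟨i, hi⟩ := os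
  have h3 : ∀ j : ℤ, s * v ^ j * s⁻¹ = v ^ (-j) := fun j => by
    obtain ⟨k, hk⟩ := u.pow_odd (odd_two_mul_add_one i)
    have e1 : s * v ^ (2 * i + 1) * s⁻¹ = (v ^ (2 * i + 1))⁻¹ := by
      refine eq_inv_of_mul_eq_one_right (mul_left_cancel (a := a) ?_)
      calc _ = s * a * s⁻¹ * (s * v ^ (2 * i + 1) * s⁻¹) := by rw [hi]; group
        _ = s * (s * a * s⁻¹) * s⁻¹ := by nth_rewrite 2 [hi]; group
        _ = s * s * a * (s * s)⁻¹ := by group
        _ = _ := by rw [ss]; group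
    have e2 : s * v * s⁻¹ = v⁻¹ := by
      calc s * v * s⁻¹ = s * (v ^ (2 * i + 1)) ^ k * s⁻¹ := by rw [← hk]
        _ = _ := by rw [← conj_zpow, e1, inv_zpow, ← hk]
    rw [← conj_zpow, e2]; group
  obtain ⟨j, rfl | rfl⟩ := hw
  · exact h.hm_ne u.hz (by rw [← h2, h3]; group)
  · have e1 : z = v ^ (2 * (j - i - 1) + 1) := by
      calc z = s * a * s⁻¹ * (s * v ^ j * s⁻¹) * (a * v ^ j) := by rw [← h2]; group
        _ = a * v ^ (2 * i + 1 - j) * (a * v ^ j) := by rw [hi, h3]; group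
        _ = _ := by rw [refl_mul_refl u.ha.1 u.hv.1]; group
    obtain ⟨k, hk⟩ := u.pow_odd (odd_two_mul_add_one (j - i - 1))
    rw [← e1] at hk
    exact vv (by rw [hk, ← (Commute.refl z).mul_zpow, u.hz.1, one_zpow])

end Su

namespace Su

variable {S : Sylow 2 G} {z a v ρ : G} {p q x : P} (u : Su O (S : Subgroup G) z a v ρ p q x)
  (h : Ov L G O) [FaithfulSMul G P] [Finite G] [IsSimpleGroup G] (hG : ¬ IsMulCommutative G)
  (h4 : ProjectivePlane.order P L % 4 = 1)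
include u h hG h4

theorem rho_eq_one : ρ = 1 := by
  by_contra hne
  obtain ⟨m, ββ, β1⟩ := exists_half S.isPGroup' u.rS hne
  have hβ := pow_mem (mem_zpowers ρ) (2 ^ m)
  generalize ρ ^ 2 ^ m = β at ββ β1 hβ
  have kβ : Ba O β := ⟨ββ, β1, u.not_hm h hβ⟩
  have βS := u.R_S hβ
  have ev : ∀ g : G, g * β * g⁻¹ ∈ S → Ev a v (g * β * g⁻¹) → g * β * g⁻¹ * β ∈ u.W := fun g hg e => by
    have k := h.ba_conj kβ g
    obtain ⟨r, hr, rr, r1, e'⟩ := u.baer_ev h hG h4 hg e k.1 k.2.1 k.2.2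
    rwa [(u.eq_inv h hG h4 hβ ββ β1 hr rr).resolve_left r1] at e'
  by_cases hA : ∀ s ∈ S, Ev a v s
  · exact kill hG S u.W_le (u.comm_W h (one_mem _) (by simp)
      fun s hs => Or.inl (hA s hs)) βS (one_mem _) ββ (by simp)
      (u.ba_W h hG h4 kβ) (by simpa using u.ba_W h hG h4 kβ) fun g hg => Or.inl (ev g hg (hA _ hg))
  push Not at hA
  obtain ⟨s, hs, e⟩ := hA
  obtain ⟨c, cS, cp, hc⟩ := u.exists_c h hs ((u.ev_or_od h hs).resolve_left e)
  obtain ⟨hv, hz | hz⟩ := u.conj_beta h hG h4 cS hc cp hβ ββ β1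
  · exact u.not_central h hG h4 cS hc βS kβ (u.cent_of h hG h4 cS hc (u.R_a hβ) hv
      (R_c hβ (mem_zpowers ρ)) (mul_inv_eq_iff_eq_mul.1 hz).symm)
  by_cases vv : v * v = 1
  · have vz : v = z := by
      have := u.eq_z h hG h4 (i := 1) (by simpa using vv)
      exact (zpow_one v).symm.trans (this.resolve_left fun e => by simpa using u.even_of_pow h e)
    have aβ : a * β * (a * β) = 1 := by
      rw [mul_assoc, ← mul_assoc β, u.R_a hβ, mul_assoc, ββ, mul_one, u.ha.1]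
    have k : a * β ∉ u.W := fun e => u.ba_W h hG h4 kβ (by simpa [u.aa] using mul_mem u.aW e)
    refine u.not_central h hG h4 cS hc (mul_mem u.aS βS) ⟨aβ, fun e => k (e ▸ one_mem _),
      fun e => k (u.hmW (mul_mem u.aS βS) e)⟩ (u.cent_of h hG h4 cS hc
      ((Commute.refl a).mul_left (u.R_a hβ)) (vz ▸ u.zc _ (mul_mem u.aS βS))
      (Commute.mul_left u.ra.symm (R_c hβ (mem_zpowers ρ))) (mul_inv_eq_iff_eq_mul.1 ?_).symm)
    calc c * (a * β) * c⁻¹ = c * a * c⁻¹ * (c * β * c⁻¹) := by group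
      _ = a * (z * z) * β := by rw [hc, hz, vz]; group
      _ = _ := by rw [u.hz.1, mul_one]
  have hab := u.comm_W h cS (u.conj_rho h hG h4 cS hc cp hβ ββ β1 hv hz)
    fun s hs => u.ev_or_ev h hG h4 cS hc hs
  by_cases hI : ∃ t ∈ S, t * t = 1 ∧ ¬ Ev a v t
  · obtain ⟨t, ht, tt, ot⟩ := hI
    have e1 : β * (β * t) = t := by rw [← mul_assoc, ββ, one_mul]
    refine kill hG S u.W_le hab βS (mul_mem βS ht) ββ ?_ (u.ba_W h hG h4 kβ) (fun e => ot ?_)
      fun g hg => (u.ev_or_od h hg).imp (ev g hg) fun e => ?_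
    · have := hab β βS t ht
      rwa [inv_eq_of_mul_eq_one_right ββ, inv_eq_of_mul_eq_one_right tt, mul_assoc] at this
    · rw [e1] at e
      obtain ⟨i, rfl | rfl⟩ := e
      · exact ⟨-i, by rw [u.va]; group⟩
      · refine ⟨i, ?_⟩
        rw [mul_assoc a, u.va, u.aa, mul_inv_rev, u.ai, ← mul_assoc, ← zpow_neg, ← zpow_add, u.va]
        group
    · rw [mul_assoc, e1]
      exact u.od_inv h hG h4 cS hc cp hβ ββ β1 hv hz vv hg ht e ((u.ev_or_od h ht).resolve_left ot)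
        (h.ba_conj kβ g).1 tt
  · push Not at hI
    exact kill hG S u.W_le hab βS (one_mem _) ββ (by simp)
      (u.ba_W h hG h4 kβ) (by simpa using u.ba_W h hG h4 kβ)
      fun g hg => Or.inl (ev g hg (hI _ hg (h.ba_conj kβ g).1))

theorem ev_W {s : G} (hs : s ∈ S) (e : Ev a v s) : s ∈ u.W := by
  obtain ⟨w, hw, r, hr, rfl⟩ := u.dec hs e
  rw [u.rho_eq_one h hG h4, zpowers_one_eq_bot, mem_bot] at hr
  rwa [hr, mul_one]

theorem all_hm {t : G} (tt : t * t = 1) (t1 : t ≠ 1) : Hm O t := by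
  by_contra hn
  obtain ⟨g, hg⟩ : ∃ g : G, g * t * g⁻¹ ∈ S := by
    obtain ⟨T, hT⟩ := (IsPGroup.iff_card.2 ⟨1, by
      rw [Nat.card_zpowers, H9.orderOf_eq_two_of_mul_self t1 tt, pow_one]⟩ :
      IsPGroup 2 (zpowers t)).exists_le_sylow
    obtain ⟨g, rfl⟩ := MulAction.exists_smul_eq G T S
    exact ⟨g, Subgroup.smul_mem_pointwise_smul t (MulAut.conj g) T (hT (mem_zpowers t))⟩
  have k := h.ba_conj ⟨tt, t1, hn⟩ g
  generalize g * t * g⁻¹ = β at hg k
  have od : ∀ s ∈ S, s ∉ u.W → Od a v s := fun s hs e =>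
    (u.ev_or_od h hs).resolve_left fun e' => e (u.ev_W h hG h4 hs e')
  have mul : ∀ s ∈ S, ∀ t ∈ S, s ∉ u.W → t ∉ u.W → s * t ∈ u.W := fun s hs t ht e1 e2 =>
    u.ev_W h hG h4 (mul_mem hs ht) (u.od_mul h hs (od s hs e1) (od t ht e2))
  refine kill hG S u.W_le (fun s hs t ht => ?_) hg (one_mem _) k.1 (by simp)
    (u.ba_W h hG h4 k) (by simpa using u.ba_W h hG h4 k) fun g' hg' =>
      Or.inl (mul _ hg' _ hg (u.ba_W h hG h4 (h.ba_conj k g')) (u.ba_W h hG h4 k))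
  by_cases e1 : s ∈ u.W
  · simpa [mul_assoc] using mul_mem e1 (u.conj_W h ht (inv_mem e1))
  by_cases e2 : t ∈ u.W
  · exact mul_mem (u.conj_W h hs e2) (inv_mem e2)
  simpa [mul_assoc] using mul_mem (mul s hs t ht e1 e2) (inv_mem (mul t ht s hs e2 e1))

theorem cent_a {s : G} (hs : s ∈ S) (e : s * a = a * s) : s = 1 ∨ s = z ∨ s = a ∨ s = z * a := by
  have key : ∀ s ∈ S, s • p = p → s * a = a * s → s = 1 ∨ s = z := fun s hs e1 e2 => by
    have := u.hr s hs e1 e2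
    rw [u.rho_eq_one h hG h4, zpowers_one_eq_bot, mem_bot, mem_bot] at this
    exact this.imp id fun e => by
      rw [eq_inv_of_mul_eq_one_right e, inv_eq_of_mul_eq_one_right u.hz.1]
  rcases u.sp s hs with k | k
  · exact (key s hs k e).imp id Or.inl
  · refine Or.inr (Or.inr ((key _ (mul_mem u.aS hs) (by rw [mul_smul, k, u.aq])
      (by rw [mul_assoc, e])).imp (fun e' => ?_) fun e' => ?_))
    · rw [← u.aa s, e', mul_one]
    · rw [← u.aa s, e', u.zc a u.aS]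

theorem types : (∃ m, 2 ≤ m ∧ Nonempty ((S : Subgroup G) ≃* DihedralGroup m)) ∨
    Cfsg.IsQuasiDihedral (S : Subgroup G) := by
  have a1 := h.hm_ne u.ha
  have z1 := h.hm_ne u.hz
  have az : a ≠ z := fun e => u.avp 0 (by rw [zpow_zero, mul_one, e, u.zp])
  set C := centralizer ({⟨a, u.aS⟩} : Set (S : Subgroup G)) with hCd
  have hm : ∀ s : (S : Subgroup G), s ∈ C ↔ s.1 * a = a * s.1 := fun s =>
    mem_centralizer_singleton_iff.trans Subtype.ext_iff
  have hC : Nat.card C = 4 := by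
    have e : (C.map (S : Subgroup G).subtype : Set G) = ({1, z, a, z * a} : Finset G) := by
      ext s
      simp only [SetLike.mem_coe, Subgroup.mem_map, hm, coe_insert, coe_singleton, Set.mem_insert_iff,
        Set.mem_singleton_iff]
      constructor
      · rintro ⟨s, hs, rfl⟩
        exact u.cent_a h hG h4 s.2 hs
      · rintro (rfl | rfl | rfl | rfl)
        · exact ⟨1, by simp, rfl⟩
        · exact ⟨⟨_, u.zS⟩, (u.zc a u.aS).symm, rfl⟩
        · exact ⟨⟨_, u.aS⟩, rfl, rfl⟩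
        · exact ⟨⟨_, mul_mem u.zS u.aS⟩, by rw [← mul_assoc, u.zc a u.aS], rfl⟩
    rw [← card_map_of_injective (S : Subgroup G).subtype_injective, ← SetLike.coe_sort_coe, e]
    have n1 : (1 : G) ≠ z * a := fun e => az (by
      rw [eq_inv_of_mul_eq_one_right e.symm, inv_eq_of_mul_eq_one_right u.hz.1])
    simp [a1, z1, a1.symm, z1.symm, az.symm, n1]
  rcases Cfsg.Agent.S3224.result S.isPGroup' ⟨a, u.aS⟩ (by
    rw [← Subgroup.orderOf_coe]; exact H9.orderOf_eq_two_of_mul_self a1 u.ha.1) hC with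
    ⟨n, ⟨f⟩⟩ | k | k
  · refine Or.inl ⟨n, ?_, ⟨f⟩⟩
    have k1 := Nat.le_of_dvd Nat.card_pos (hC ▸ card_subgroup_dvd_card C)
    rw [Nat.card_congr f.toEquiv, DihedralGroup.nat_card] at k1
    omega
  · exact Or.inr k
  · have k1 := eq_top_of_card_eq _ (hC.trans k.symm)
    refine Or.inl ⟨2, le_rfl, H41.nonempty_mulEquiv_dihedral two_ne_zero
      (H9.orderOf_eq_two_of_mul_self z1 u.hz.1) u.ha.1 (by
        rw [u.zc a u.aS, mul_inv_cancel_right, inv_eq_of_mul_eq_one_right u.hz.1])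
      (fun e => u.avp 0 ?_) fun s => ⟨fun hs => ?_, ?_⟩⟩
    · rw [zpow_zero, mul_one]
      exact zpowers_le.2 (show z ∈ MulAction.stabilizer G p from u.zp) e
    · rcases u.cent_a h hG h4 hs ((hm ⟨s, hs⟩).1 (k1 ▸ mem_top _)) with rfl | rfl | rfl | rfl
      exacts [⟨0, by simp⟩, ⟨1, by simp⟩, ⟨0, by simp⟩, ⟨1, by simp⟩]
    · rintro ⟨i, rfl | rfl⟩
      exacts [zpow_mem u.zS i, mul_mem (zpow_mem u.zS i) u.aS]

end Su

end H52.Oval
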